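import Cfsg.Agent.SUSix.Combine
import Cfsg.Agent.SLShort.Main
import Cfsg.Agent.SUThreePres.Main

/-!
# Counting the relations

Six generators suffice: the four of `Alt(n)` and the three of `SU(3, q)`, one of the former being a word in the
latter, or two generators for small `n`.
-/

set_option autoImplicit false

namespace Cfsg.Agent.SUSix

open Matrix Function Equiv Equiv.Perm Cfsg.Agent.Phan Cfsg.Agent.AltMult Cfsg.Agent.SLShort

universe u

variable {F : Type u} [Field F] [Fintype F] {σ : F →+* F} {q : ℕ} (hS : Fld σ q)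

/-- Enough extra relations, `e` many, exist for every gluing. -/
def Extra (N : ℕ) (e : ℕ) : Prop :=
  ∀ (H : Type) [Group H] (π : H →* alternatingGroup (Fin N)) (hn : 4 ≤ N) (h0 : H) (g : SUn 2 F q)
    (D : Finset (H × Bool × Bool)) (Dsd : Finset Bool), GlueHyp.{u, u} π hn hS h0 g D Dsd →
    ∃ X : Finset (Monoid.Coprod H (SUn 3 F q)), X.card ≤ e ∧ (∀ x ∈ X, glueMap π hn hS x = 1) ∧
      FourFree π hn hS h0 g D Dsd X

theorem extra_of_lt (hq : 3 < q) (N : ℕ) : Extra hS N 0 := fun _ _ _ _ _ _ _ _ _ =>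
  ⟨∅, by simp, by simp, fun _ _ _ _ _ _ _ => Or.inl hq⟩

variable {N : ℕ} {H : Type} [Group H] (π : H →* alternatingGroup (Fin N))

theorem exists_glued_pres [Fact (2 < q)] (hn : 4 ≤ N) (hπ : Surjective π) {k r k' r' e : ℕ}
    (f1 : FreeGroup (Fin k) →* H) (hf1 : Surjective f1) (R1 : Finset (FreeGroup (Fin k)))
    (hR1 : R1.card ≤ r) (hk1 : f1.ker = Subgroup.normalClosure (R1 : Set _)) (h : FreeGroup (Fin k))
    (hh : π (f1 h) = cycA (z hn 0) (z hn 1) (z hn 2) ((z_injective hn).ne (by decide))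
      ((z_injective hn).ne (by decide)))
    (hnc : Subgroup.normalClosure ({f1 h} : Set H) = ⊤)
    (D : Finset (H × Bool × Bool)) (hD : StabData.{u} π hn D) (Dsd : Finset Bool)
    (hsd : false ∈ Dsd ∧ (true ∈ Dsd ∨ 6 ≤ N)) (h3 : Pres (SUn 3 F q) k' r') (hX : Extra hS N e) :
    ∃ f : FreeGroup (Fin (k + k')) →* SUn N F q, Surjective f ∧
      ∃ (R : Finset (FreeGroup (Fin (k + k')))) (w : FreeGroup (Fin k')),
        R.card ≤ r + r' + (D.card + Dsd.card + e + 1) ∧
        f.ker = Subgroup.normalClosure (R : Set _) ∧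
        FreeGroup.map (Fin.castAdd k') h * (FreeGroup.map (Fin.natAdd k) w)⁻¹ ∈ R := by
  classical
  obtain ⟨g, hg⟩ := exists_one_gen hS
  have hH : GlueHyp.{u, u} π hn hS (f1 h) g D Dsd := ⟨hπ, hh, hnc, hD, hsd, hg⟩
  obtain ⟨X, hXe, hX1, hfour⟩ := hX H π hn (f1 h) g D Dsd hH
  obtain ⟨hΦ, S, hSc, hker⟩ := su_glue π hn hS hH X hX1 hfour
  obtain ⟨f2, hf2, R2, hR2, hk2⟩ := h3
  obtain ⟨Fc, hFc, hkc, e1, e2⟩ := ker_coprod_free f1 hf1 _ hk1 f2 hf2 _ hk2
  obtain ⟨w', hw'⟩ := hf2 (pm c3)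
  rw [← hw'] at hker
  let x0 := FreeGroup.map (Fin.castAdd k') h * (FreeGroup.map (Fin.natAdd k) w')⁻¹
  have hx0 : Fc x0 = Monoid.Coprod.inl (f1 h) * (Monoid.Coprod.inr (f2 w'))⁻¹ := by
    simp only [x0, map_mul, map_inv, e1, e2]
  refine ⟨(glueMap π hn hS).comp Fc, hΦ.comp hFc, (R1.image (FreeGroup.map (Fin.castAdd k')) ∪
    R2.image (FreeGroup.map (Fin.natAdd k))) ∪ insert x0 (S.image (Function.surjInv hFc)), w',
    ?_, ?_, Finset.mem_union_right _ (Finset.mem_insert_self _ _)⟩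
  · exact (Finset.card_union_le _ _).trans (Nat.add_le_add
      ((Finset.card_union_le _ _).trans (Nat.add_le_add (Finset.card_image_le.trans hR1)
        (Finset.card_image_le.trans hR2)))
      ((Finset.card_insert_le _ _).trans
        (Nat.add_le_add_right (Finset.card_image_le.trans (hSc.trans (by omega))) 1)))
  · rw [Finset.coe_union]
    refine ker_comp Fc hFc _ ?_ ?_
    · rw [hkc, Finset.coe_union, Finset.coe_image, Finset.coe_image]
    · rw [hker, Finset.coe_insert, Set.image_insert_eq, hx0, Finset.coe_image, Set.image_image]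
      simp only [Function.surjInv_eq hFc, Set.image_id']

include hS in
theorem small_pres [Fact (2 < q)] {n : ℕ} (hn : n = 4 ∨ n = 5) {r' e : ℕ}
    (h3 : Pres (SUn 3 F q) 3 r') (hX : Extra hS n e) : Pres (SUn n F q) 6 (r' + e + 8) := by
  classical
  rcases hn with rfl | rfl
  · obtain ⟨H, _, π, f, D, hπ, hf, ⟨R, hR, hk⟩, hh, hnc, hD, hs⟩ := SLShort.data_four.{u}
    obtain ⟨f', hf', R', -, hR', hk', -⟩ := exists_glued_pres hS π (le_refl 4) hπ f hf R hR hk
      (FreeGroup.of 0) hh hnc D hs {false, true} ⟨by simp, Or.inl (by simp)⟩ h3 hX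
    have : ({false, true} : Finset Bool).card = 2 := rfl
    exact (Pres.pad ⟨f', hf', R', le_rfl, hk'⟩ : Pres _ 6 (R'.card + 1)).mono (by omega)
  · obtain ⟨H, _, π, f, D, hπ, hf, ⟨R, hR, hk⟩, hh, hnc, hD, hs⟩ := SLShort.data_five.{u}
    obtain ⟨f', hf', R', -, hR', hk', -⟩ := exists_glued_pres hS π (Nat.le_succ 4) hπ f hf R hR hk
      (FreeGroup.of 0) hh hnc D hs {false, true} ⟨by simp, Or.inl (by simp)⟩ h3 hX
    have : ({false, true} : Finset Bool).card = 2 := rfl
    exact (Pres.pad ⟨f', hf', R', le_rfl, hk'⟩ : Pres _ 6 (R'.card + 1)).mono (by omega)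

include hS in
theorem large_pres [Fact (2 < q)] {n : ℕ} (h6 : 6 ≤ n) {r' e : ℕ}
    (h3 : Pres (SUn 3 F q) 3 r') (hX : Extra hS n e) : Pres (SUn n F q) 6 (r' + e + 11) := by
  classical
  have hn : 4 ≤ n := by omega
  have h01 : z hn 0 ≠ z hn 1 := (z_injective hn).ne (by decide)
  have h02 : z hn 0 ≠ z hn 2 := (z_injective hn).ne (by decide)
  have h12 : z hn 1 ≠ z hn 2 := (z_injective hn).ne (by decide)
  obtain ⟨f, hf, ⟨R, hR, hk⟩, hz⟩ :=
    ShortPres.Shift.seven_alt_cycle n (by omega) (z hn 0) (z hn 1) (z hn 2) h01 h02 h12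
  obtain ⟨D, hD, hs⟩ := data_large.{u} hn (by omega)
  have hnc : Subgroup.normalClosure ({f (FreeGroup.of 2)} : Set (alternatingGroup (Fin n))) = ⊤ := by
    have hsimple : IsSimpleGroup (alternatingGroup (Fin n)) :=
      alternatingGroup.isSimpleGroup (by simp; omega)
    rcases Subgroup.Normal.eq_bot_or_eq_top
      (Subgroup.normalClosure_normal (s := ({f (FreeGroup.of 2)} : Set (alternatingGroup (Fin n))))) with h | h
    · exfalso
      have h1 : f (FreeGroup.of 2) = 1 := Subgroup.mem_bot.mp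
        (h ▸ Subgroup.subset_normalClosure (Set.mem_singleton _))
      have h2 := congrArg (fun g : alternatingGroup (Fin n) => g.1 (z hn 0)) h1
      simp only [hz, OneMemClass.coe_one, Perm.one_apply] at h2
      exact h01 ((cyc_apply_left h01 h12).symm.trans h2).symm
    · exact h
  obtain ⟨f', hf', R', w, hR', hk', hx⟩ := exists_glued_pres hS (MonoidHom.id (alternatingGroup (Fin n))) hn
    Function.surjective_id f hf R hR hk (FreeGroup.of 2) (Subtype.ext hz) hnc D hs {false}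
    ⟨by simp, Or.inr h6⟩ h3 hX
  have : ({false} : Finset Bool).card = 1 := rfl
  let j : Fin 7 := Fin.castAdd 3 2
  have hτ : ∀ l : Fin 3, ∃ y : Fin 6, j.succAbove y = Fin.natAdd 4 l := fun l =>
    Fin.exists_succAbove_eq (Fin.ne_of_val_ne (by simp [j]; omega))
  choose τ hτ using hτ
  refine (pres_elim f' hf' R' hR' hk' j (FreeGroup.map τ w) ?_).mono (by omega)
  have e : FreeGroup.map j.succAbove (FreeGroup.map τ w) = FreeGroup.map (Fin.natAdd 4) w := by
    rw [FreeGroup.map.comp]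
    exact congrArg (fun g => FreeGroup.map g w) (funext hτ)
  rw [e]
  simpa [j] using hx

theorem psu_pres {n k r : ℕ} (hn : 2 ≤ n) (hF : Fintype.card F = q ^ 2) (h : Pres (SUn n F q) k r) : Pres (Cfsg.PSU n F q) k (r + 1) := by
  classical
  have : Nonempty (Fin n) := ⟨⟨0, by omega⟩⟩
  let i0 : Fin n := ⟨0, by omega⟩
  have hsc : ∀ z ∈ Subgroup.center (SUn n F q), ∃ a : F, mx z = a • (1 : Matrix (Fin n) (Fin n) F) := by
    intro z hz
    obtain ⟨τ, hu⟩ := AutPSU.exists_uctx (F := F) (q := q) hF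
    obtain ⟨a, ha⟩ := AutPSU.center_scalar hu hn hz
    refine ⟨a, Matrix.ext_of_mulVec_single fun l => ?_⟩
    rw [smul_mulVec, one_mulVec]
    exact ha _
  let χ : Subgroup.center (SUn n F q) →* F :=
    { toFun := fun z => mx z.1 i0 i0
      map_one' := by simp [mx]
      map_mul' := fun a b => by
        obtain ⟨x, hx⟩ := hsc a.1 a.2
        obtain ⟨y, hy⟩ := hsc b.1 b.2
        show (mx a.1 * mx b.1) i0 i0 = mx a.1 i0 i0 * mx b.1 i0 i0
        rw [hx, hy]
        simp [mul_comm] }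
  have hχ : Function.Injective χ := by
    intro a b hab
    obtain ⟨x, hx⟩ := hsc a.1 a.2
    obtain ⟨y, hy⟩ := hsc b.1 b.2
    have hab' : mx a.1 i0 i0 = mx b.1 i0 i0 := hab
    rw [hx, hy] at hab'
    simp at hab'
    exact Subtype.ext (Subtype.ext (Subtype.ext (hx.trans (hab' ▸ hy.symm))))
  have : IsCyclic (Subgroup.center (SUn n F q)) := isCyclic_of_subgroup_isDomain χ hχ
  obtain ⟨c, hc⟩ := IsCyclic.exists_generator (α := Subgroup.center (SUn n F q))
  refine h.quotient (QuotientGroup.mk' _) (QuotientGroup.mk'_surjective _) (c : SUn n F q) ?_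
  rw [QuotientGroup.ker_mk']
  refine le_antisymm (fun x hx => ?_) (Subgroup.normalClosure_le_normal (by simp))
  obtain ⟨j, hj⟩ := hc ⟨x, hx⟩
  rw [show x = (c : SUn n F q) ^ j from (congrArg Subtype.val hj).symm]
  exact zpow_mem (Subgroup.subset_normalClosure (by simp)) j

end Cfsg.Agent.SUSix
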