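import Cfsg.Agent.SUSix.Quad
import Cfsg.Agent.SUSix.Pres

/-!
# Four extra relations suffice over the field of nine elements
-/

set_option autoImplicit false

namespace Cfsg.Agent.SUSix

open Matrix Function Equiv Equiv.Perm Cfsg.Agent.Phan Cfsg.Agent.AltMult Cfsg.Agent.SLShort
open Cfsg.Agent.SUShort (sub Fw FourData cv)
open Cfsg.Agent.AutPSU (eS IsE UCtx suConj)
open scoped commutatorElement

universe u v

variable {N : ℕ} {H : Type} [Group H] {π : H →* alternatingGroup (Fin N)} {hn : 4 ≤ N}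
variable {F : Type u} [Field F] [Fintype F] {σ : F →+* F} {q : ℕ} {hS : Fld σ q} [Fact (2 < q)]
variable {Q : Type u} [Group Q] {φ : H →* Q} {ψ : SUn 3 F q →* Q}
variable {h0 : H} {g : SUn 2 F q} {D : Finset (H × Bool × Bool)} {Dsd : Finset Bool}

/-- The group of the blocks on the first four coordinates. -/
noncomputable def quadGroup (π : H →* alternatingGroup (Fin N)) (hn : 4 ≤ N) (hS : Fld σ q) (φ : H →* Q)
    (ψ : SUn 3 F q →* Q) : Subgroup Q :=
  ⨆ (i : Fin 4) (j : Fin 4) (_ : i < j), (blkHom π hn hS φ ψ (z hn i) (z hn j)).range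

variable (hH : GlueHyp.{u, u} π hn hS h0 g D Dsd) (R : GlueRel π hn hS φ ψ h0 g D Dsd)
variable {P : Q →* SUn N F q} (hφ : P.comp φ = (pm).comp π) (hψ : P.comp ψ = E3 hn hS)
include hH R

theorem blk_mem_quad {i j : Fin 4} (hij : i ≠ j) (s : SUn 2 F q) :
    blkHom π hn hS φ ψ (z hn i) (z hn j) s ∈ quadGroup π hn hS φ ψ := by
  rcases lt_or_gt_of_ne hij with h | h
  · exact Subgroup.mem_iSup_of_mem i (Subgroup.mem_iSup_of_mem j (Subgroup.mem_iSup_of_mem h ⟨s, rfl⟩))
  · exact Subgroup.mem_iSup_of_mem j (Subgroup.mem_iSup_of_mem i (Subgroup.mem_iSup_of_mem h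
      ⟨flip hS s, (blk_symm hH R ((z_injective hn).ne hij.symm) s).symm⟩))

theorem triple_hom (c : Fin 3 → Fin 4) (hc : Injective c) : ∃ η : SUn 3 F q →* Q,
    (∀ a b, a ≠ b → ∀ s, η (e2' hS a b s) = blkHom π hn hS φ ψ (z hn (c a)) (z hn (c b)) s) ∧
      ∀ x, η x ∈ quadGroup π hn hS φ ψ := by
  have hz : ∀ {a b : Fin 3}, a ≠ b → z hn (c a) ≠ z hn (c b) := fun h => (z_injective hn).ne (hc.ne h)
  obtain ⟨h, a, b, d, hab', hbd', had', hab, hbd, had⟩ :=
    triple hH R (hz (show (0 : Fin 3) ≠ 1 by decide)) (hz (show (0 : Fin 3) ≠ 2 by decide))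
      (hz (show (1 : Fin 3) ≠ 2 by decide))
  have hd : Injective (![a, b, d] : Fin 3 → Fin 3) := by
    intro x y hxy
    fin_cases x <;> fin_cases y <;> simp_all
  set η := ((MulAut.conj (φ h)).toMonoidHom.comp ψ).comp (emb hS ![a, b, d] hd) with hη
  have base : ∀ x y : Fin 3, x < y → ∀ s,
      η (e2' hS x y s) = blkHom π hn hS φ ψ (z hn (c x)) (z hn (c y)) s := by
    intro x y hxy s
    rw [hη, MonoidHom.comp_apply, e2'_eq hS hxy.ne, emb_e2, ← e2'_eq hS]
    fin_cases x <;> fin_cases y <;> first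
      | exact absurd hxy (by decide)
      | exact (hab s).symm
      | exact (had s).symm
      | exact (hbd s).symm
  refine ⟨η, fun x y hxy s => ?_, ?_⟩
  · rcases lt_or_gt_of_ne hxy with h' | h'
    · exact base x y h' s
    · rw [blk_symm hH R (hz hxy.symm), ← base y x h', e2'_eq hS hxy.symm, e2'_eq hS hxy, e2_flip]
  · suffices (⊤ : Subgroup (SUn 3 F q)) ≤ (quadGroup π hn hS φ ψ).comap η from
      fun x => this (Subgroup.mem_top x)
    rw [← gen_three' hS]
    refine sup_le ?_ ?_ <;> rintro _ ⟨s, rfl⟩ <;> rw [Subgroup.mem_comap, ← e2'_eq hS]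
    · rw [base 0 1 (by decide)]; exact blk_mem_quad hH R (hc.ne (by decide)) s
    · rw [base 1 2 (by decide)]; exact blk_mem_quad hH R (hc.ne (by decide)) s

include hφ hψ

theorem map_quad : ∀ x ∈ quadGroup π hn hS φ ψ, P x ∈ ((emb hS (z hn) (z_injective hn) : SUn 4 F q →* SUn N F q)).range := by
  intro x hx
  refine (show quadGroup π hn hS φ ψ ≤ (emb hS (z hn) (z_injective hn)).range.comap P from
    iSup_le fun i => iSup_le fun j => iSup_le fun hij => ?_) hx
  rintro _ ⟨s, rfl⟩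
  rw [Subgroup.mem_comap]
  rw [map_blk hH hφ hψ ((z_injective hn).ne hij.ne)]
  exact ⟨e2 hS hij.ne s, emb_e2 hS _ _ _ s⟩

/-- The blocks on the first four coordinates. -/
noncomputable def quad : Quad hS ↥(quadGroup π hn hS φ ψ) where
  B i j := if h : i ≠ j then
      (blkHom π hn hS φ ψ (z hn i) (z hn j)).codRestrict _ (blk_mem_quad hH R h)
    else 1
  ρ := (MonoidHom.ofInjective (emb_injective hS (z hn) (z_injective hn))).symm.toMonoidHom.comp
    ((P.comp (quadGroup π hn hS φ ψ).subtype).codRestrict _ fun x => map_quad hH R hφ hψ x x.2)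
  map_B i j h s := by
    rw [dif_pos h, MonoidHom.comp_apply]
    refine (MulEquiv.symm_apply_eq _).2 (Subtype.ext ?_)
    show P (blkHom π hn hS φ ψ (z hn i) (z hn j) s) = emb hS (z hn) _ (e2 hS h s)
    rw [map_blk hH hφ hψ ((z_injective hn).ne h), emb_e2]
  disj i j k l hij hkl hik hil hjk hjl s t := by
    rw [dif_pos hij, dif_pos hkl]
    refine Subtype.ext ?_
    exact (disjoint hH R ((z_injective hn).ne hij) ((z_injective hn).ne hkl) ((z_injective hn).ne hik)
      ((z_injective hn).ne hil) ((z_injective hn).ne hjk) ((z_injective hn).ne hjl) s t).eq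
  tri c hc := by
    obtain ⟨η, h1, h2⟩ := triple_hom hH R c hc
    exact ⟨η.codRestrict _ h2, fun a b hab s => by
      rw [dif_pos (hc.ne hab)]; exact Subtype.ext (h1 a b hab s)⟩
  gen S hle := by
    have h : quadGroup π hn hS φ ψ ≤ S.map (quadGroup π hn hS φ ψ).subtype := by
      refine iSup_le fun i => iSup_le fun j => iSup_le fun hij => ?_
      rintro _ ⟨s, rfl⟩
      refine ⟨⟨_, blk_mem_quad hH R hij.ne s⟩, hle i j hij ⟨s, ?_⟩, rfl⟩
      rw [dif_pos hij.ne]
      rfl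
    refine eq_top_iff.2 fun x _ => ?_
    obtain ⟨y, hy, e⟩ := h x.2
    rwa [← Subtype.ext e]

theorem quad_η (s : SUn 3 F q) : ((quad hH R hφ hψ).η inj012 s : Q) = ψ s := by
  refine DFunLike.congr_fun (hom_ext3 hS (f := (quadGroup π hn hS φ ψ).subtype.comp ((quad hH R hφ hψ).η inj012))
    (g := ψ) (fun t => ?_) fun t => ?_) s <;>
  · rw [MonoidHom.comp_apply, Quad.η_e2 _ _ (by decide), e2'_eq hS (by decide), ← block hH R (by decide)]
    rfl

/-- Faithfulness on the first four coordinates spreads to all runs of four. -/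
theorem free4_of_quad (hinj : Injective (quad hH R hφ hψ).ρ) : Free4 P (mem π hn hS φ ψ) := by
  intro i hi
  have hz : ∀ {a b : Fin 4}, a ≠ b → z hn a ≠ z hn b := fun h => (z_injective hn).ne h
  let t : Fin 4 → Fin N := fun k => ⟨i + k, by omega⟩
  have ht : Injective t := fun a b h => Fin.ext (by simpa [t] using congrArg Fin.val h)
  obtain ⟨h, e, he⟩ : ∃ (h : H) (e : Fin 4 → Fin 4), Injective e ∧ ∀ k, (π h).1 (z hn (e k)) = t k := by
    obtain ⟨g', hg | hg⟩ := ShortPres.exists_alt_map (m := 2) ![z hn 0, z hn 1, z hn 2, z hn 3]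
      ![t 0, t 1, t 2, t 3]
      (by intro a b; fin_cases a <;> fin_cases b <;> simp [(z_injective hn).eq_iff])
      (by intro a b; fin_cases a <;> fin_cases b <;> simp [ht.eq_iff])
    · obtain ⟨h, rfl⟩ := hH.surj g'
      exact ⟨h, id, injective_id, fun k => by fin_cases k <;> [exact hg 0; exact hg 1; exact hg 2; exact hg 3]⟩
    · obtain ⟨h, rfl⟩ := hH.surj g'
      have e0 := hg 0; have e1 := hg 1; have e2 := hg 2; have e3 := hg 3
      simp [swap_apply_of_ne_of_ne] at e0 e1 e2 e3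
      exact ⟨h, ![1, 0, 2, 3], by decide, fun k => by fin_cases k <;> assumption⟩
  obtain ⟨hei, he⟩ := he
  set K := quadGroup π hn hS φ ψ
  have hle : mem π hn hS φ ψ i ⊔ (mem π hn hS φ ψ (i + 1) ⊔ mem π hn hS φ ψ (i + 2)) ≤
      K.map (MulAut.conj (φ h)).toMonoidHom := by
    have key : ∀ (k : Fin 4) (hk : k.val + 1 < 4),
        mem π hn hS φ ψ (i + k.val) ≤ K.map (MulAut.conj (φ h)).toMonoidHom := by
      intro k hk
      rw [mem, dif_pos (by omega)]
      rintro _ ⟨s, rfl⟩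
      have hne : e k ≠ e ⟨k + 1, hk⟩ := hei.ne (Fin.ne_of_val_ne (by simp))
      refine ⟨_, blk_mem_quad hH R hne s, ?_⟩
      show φ h * blkHom π hn hS φ ψ _ _ s * (φ h)⁻¹ = _
      rw [equi hH R h (hz hne), he, he]
      rfl
    exact sup_le (key 0 (by decide)) (sup_le (key 1 (by decide)) (key 2 (by decide)))
  intro x hx h1
  obtain ⟨y, hy, rfl⟩ := hle hx
  simp only [MulEquiv.coe_toMonoidHom, MulAut.conj_apply] at h1 ⊢
  rw [map_mul, map_mul, map_inv, conj_eq_one_iff] at h1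
  have hy' : (quad hH R hφ hψ).ρ ⟨y, hy⟩ = 1 := by
    show (MonoidHom.ofInjective (emb_injective hS (z hn) (z_injective hn))).symm _ = 1
    rw [MulEquiv.symm_apply_eq, map_one]
    exact Subtype.ext h1
  rw [show y = 1 from congrArg Subtype.val (hinj (hy'.trans (map_one _).symm)), mul_one, mul_inv_cancel]

omit hH R hφ hψ [Fact (2 < q)] in
/-- Over the field of nine elements four extra relations suffice. -/
theorem extra_three (hS : Fld σ q) [Fact (2 < q)] (hq : q = 3) (N : ℕ) : Extra hS N 4 := by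
  classical
  intro H _ π hn h0 g D Dsd hH
  set hu := uctx hS
  obtain ⟨γ, hγ⟩ := hS.exists_nn (a := (-1 : F)) (by rw [map_neg, map_one])
  obtain ⟨τ, hτ⟩ := hS.exists_trace (a := (1 : F)) (map_one σ)
  obtain ⟨ξ, -, hξ⟩ := hS.exists_moved
  obtain ⟨a, ha⟩ := hS.exists_nn (a := (-1 : F)) (by rw [map_neg, map_one])
  set C := frame γ τ hγ hτ
  choose dd hdd using fun r : F => SUShort.FourData.exists_isE hu (C := C)
    (show (2 : Fin 4) ≠ C.a from show (2 : Fin 4) ≠ 0 by decide)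
    (show (2 : Fin 4) ≠ C.b from show (2 : Fin 4) ≠ 1 by decide) r
  have hmem : ∀ r, eS hu C.e (r • cv (2 : Fin 4)) (dd r) ∈ (emb hS ![0, 1, 2] inj012).range := fun r =>
    mem_emb_of_sub hS inj012 (S := ({0, 1, 2} : Finset (Fin 4))) (fun l hl => by
      simp only [Finset.mem_insert, Finset.mem_singleton] at hl
      rcases hl with rfl | rfl | rfl
      exacts [⟨0, rfl⟩, ⟨1, rfl⟩, ⟨2, rfl⟩])
      (SUShort.eS_mem_sub hu (hdd r) (C.e_supp.mono (by simp [Fw.P2, C, frame]))
        ((SUShort.supp_cv (by simp)).smul r))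
  choose sc hsc using hmem
  have n23 : (2 : Fin 4) ≠ 3 := by decide
  have he2 : ∀ s : SUn 2 F q, ap (e2 hS n23 s) C.e = C.e := fun s =>
    SUShort.fix_of_supp ((mem_sub_pair hS n23).2 ⟨s, rfl⟩) fun i hi => C.e_supp i (by
      simp only [Finset.mem_insert, Finset.mem_singleton] at hi
      rcases hi with rfl | rfl <;> simp [Fw.P2, C, frame])
  have hw : ∀ r d : F, IsE σ C.e (r • cv (2 : Fin 4)) d → IsE σ C.e (r • cv (3 : Fin 4)) d ∧
      e2 hS n23 (w2 hS) * eS hu C.e (r • cv (2 : Fin 4)) d * (e2 hS n23 (w2 hS))⁻¹ =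
        eS hu C.e (r • cv (3 : Fin 4)) d := by
    intro r d hE
    have e : ap (e2 hS n23 (w2 hS)) (r • cv (2 : Fin 4)) = r • cv (3 : Fin 4) := by
      rw [ap_smul]
      congr 1
      exact (emb_ev_smul hS ![2, 3] _ _ (a := 0) (b := 1) (w2_ev hS).1).trans (one_smul F _)
    have h1 := hE.conjS hu (e2 hS n23 (w2 hS))
    have h2 := suConj hu (e2 hS n23 (w2 hS)) hE
    change IsE σ (ap _ C.e) (ap _ (r • cv (2 : Fin 4))) d at h1
    change e2 hS n23 (w2 hS) * _ * _ = eS hu (ap _ C.e) (ap _ (r • cv (2 : Fin 4))) d at h2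
    rw [he2, e] at h1 h2
    exact ⟨h1, h2⟩
  let ι : H →* Monoid.Coprod H (SUn 3 F q) := Monoid.Coprod.inl
  let κ : SUn 3 F q →* Monoid.Coprod H (SUn 3 F q) := Monoid.Coprod.inr
  let b23 := blkHom π hn hS ι κ (z hn 2) (z hn 3)
  have hker : ∀ s, glueMap π hn hS (κ s) = emb hS (z hn) (z_injective hn) (emb hS ![0, 1, 2] inj012 s) := by
    intro s
    rw [show glueMap π hn hS (κ s) = E3 hn hS s from DFunLike.congr_fun (glueMap_inr π hn hS) s, E3, emb_comp]
    exact emb_congr hS _ (funext fun k => by fin_cases k <;> rfl) s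
  have hb : ∀ s, glueMap π hn hS (b23 s) = emb hS (z hn) (z_injective hn) (e2 hS n23 s) := fun s => by
    rw [map_blk hH (glueMap_inl π hn hS) (glueMap_inr π hn hS) ((z_injective hn).ne n23), emb_e2]
  let W : SUn 3 F q → Monoid.Coprod H (SUn 3 F q) := fun s => b23 (w2 hS) * κ s * (b23 (w2 hS))⁻¹
  let xr : F → Monoid.Coprod H (SUn 3 F q) := fun α => ⁅κ (sc 1), W (sc α)⁆
  -- the images of the seeds under the third generator
  have himg : ∀ r, ∃ t1 t2 : SUn 3 F q, ∃ r1 d1 r2 d2 : F,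
      IsE σ C.e (r1 • cv (2 : Fin 4)) d1 ∧ IsE σ C.e (r2 • cv (2 : Fin 4)) d2 ∧
      emb hS ![0, 1, 2] inj012 t1 = eS hu C.e (r1 • cv (2 : Fin 4)) d1 ∧
      emb hS ![0, 1, 2] inj012 t2 = eS hu C.e (r2 • cv (2 : Fin 4)) d2 ∧
      e2 hS n23 (s2 hS hq ha) * emb hS ![0, 1, 2] inj012 (sc r) * (e2 hS n23 (s2 hS hq ha))⁻¹ =
        emb hS ![0, 1, 2] inj012 t1 *
          (e2 hS n23 (w2 hS) * emb hS ![0, 1, 2] inj012 t2 * (e2 hS n23 (w2 hS))⁻¹) := by
    intro r
    set g2 := e2 hS n23 (s2 hS hq ha)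
    have hv : ap g2 (r • cv (2 : Fin 4)) = (r * a) • cv (2 : Fin 4) + (r * a) • cv (3 : Fin 4) := by
      funext l
      rw [ap_smul, Pi.smul_apply]
      rcases (show l = 0 ∨ l = 1 ∨ l = 2 ∨ l = 3 by revert l; decide) with rfl | rfl | rfl | rfl
      · rw [show ap g2 (cv (2 : Fin 4)) 0 = _ from emb_ne hS _ _ _ _ (notMem_range_pair.2 ⟨by decide, by decide⟩)]
        simp
      · rw [show ap g2 (cv (2 : Fin 4)) 1 = _ from emb_ne hS _ _ _ _ (notMem_range_pair.2 ⟨by decide, by decide⟩)]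
        simp
      · rw [show ap g2 (cv (2 : Fin 4)) 2 = _ from (emb_c hS ![2, 3] _ _ _ 0).trans (mk2_zero hS _ _ _ _)]
        simp
      · rw [show ap g2 (cv (2 : Fin 4)) 3 = _ from (emb_c hS ![2, 3] _ _ _ 1).trans (mk2_one hS _ _ _ _)]
        simp
    have h1 := (hdd r).conjS hu g2
    have h2 := suConj hu g2 (hdd r)
    change IsE σ (ap g2 C.e) (ap g2 (r • cv (2 : Fin 4))) (dd r) at h1
    change g2 * _ * g2⁻¹ = eS hu (ap g2 C.e) (ap g2 (r • cv (2 : Fin 4))) (dd r) at h2
    rw [he2, hv] at h1 h2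
    obtain ⟨hw3, ew⟩ := hw _ _ (hdd (r * a))
    have hB : Classical.hermB 4 σ ((r * a) • cv (2 : Fin 4)) ((r * a) • cv (3 : Fin 4)) = 0 := by
      simp [SUShort.hB_cv_cv]
    have hB' : Classical.hermB 4 σ ((r * a) • cv (3 : Fin 4)) ((r * a) • cv (2 : Fin 4)) = 0 := by
      simp [SUShort.hB_cv_cv]
    have hE1 : IsE σ C.e ((r * a) • cv (2 : Fin 4)) (dd r - dd (r * a)) := by
      refine ⟨(hdd r).ee, (hdd (r * a)).ae, ?_⟩
      have k1 := h1.tr
      have k2 := hw3.tr
      simp only [map_add, LinearMap.add_apply, hB, hB', add_zero, zero_add] at k1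
      rw [map_sub]
      linear_combination k1 - k2
    obtain ⟨t1, ht1⟩ : eS hu C.e ((r * a) • cv (2 : Fin 4)) (dd r - dd (r * a)) ∈
        (emb hS ![0, 1, 2] inj012).range :=
      mem_emb_of_sub hS inj012 (S := ({0, 1, 2} : Finset (Fin 4))) (fun l hl => by
        simp only [Finset.mem_insert, Finset.mem_singleton] at hl
        rcases hl with rfl | rfl | rfl
        exacts [⟨0, rfl⟩, ⟨1, rfl⟩, ⟨2, rfl⟩])
        (SUShort.eS_mem_sub hu hE1 (C.e_supp.mono (by simp [Fw.P2, C, frame]))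
          ((SUShort.supp_cv (by simp)).smul _))
    refine ⟨t1, sc (r * a), _, _, _, _, hE1, hdd (r * a), ht1, hsc _, ?_⟩
    rw [ht1, hsc, hsc, ew, h2, AutPSU.eS_mul hu hE1 hw3, hB, sub_zero, sub_add_cancel]
  choose t1 t2 r1 d1 r2 d2 hE1 hE2 ht1 ht2 himg using himg
  let xn : F → Monoid.Coprod H (SUn 3 F q) := fun r =>
    b23 (s2 hS hq ha) * κ (sc r) * (b23 (s2 hS hq ha))⁻¹ * (κ (t1 r) * W (t2 r))⁻¹
  refine ⟨({1, ξ} : Finset F).image xr ∪ ({1, ξ} : Finset F).image xn, ?_, ?_, ?_⟩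
  · refine (Finset.card_union_le _ _).trans ((Nat.add_le_add Finset.card_image_le Finset.card_image_le).trans ?_)
    have : ({1, ξ} : Finset F).card ≤ 2 := Finset.card_le_two
    omega
  · intro x hx
    rcases Finset.mem_union.1 hx with hx | hx <;> obtain ⟨r, -, rfl⟩ := Finset.mem_image.1 hx
    · rw [map_commutatorElement, commutatorElement_eq_one_iff_commute]
      simp only [W, map_mul, map_inv, hker, hb]
      rw [← map_mul, ← map_inv, ← map_mul]
      refine Commute.map ?_ _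
      obtain ⟨hw3, ew⟩ := hw _ _ (hdd r)
      rw [hsc, hsc, ew]
      show _ * _ = _ * _
      rw [AutPSU.eS_mul hu (hdd 1) hw3, AutPSU.eS_mul hu hw3 (hdd 1), add_comm ((1 : F) • cv (2 : Fin 4))]
      congr 1
      simp [SUShort.hB_cv_cv]
      ring
    · simp only [xn, W, map_mul, map_inv, hker, hb]
      rw [mul_inv_eq_one]
      have h1 := congrArg (emb hS (z hn) (z_injective hn)) (himg r)
      simp only [map_mul, map_inv] at h1 ⊢
      exact h1
  · intro Q _ f P hP hX R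
    refine Or.inr ?_
    have hφ : P.comp (f.comp ι) = (pm).comp π := by rw [← MonoidHom.comp_assoc, hP]; exact glueMap_inl π hn hS
    have hψ : P.comp (f.comp κ) = E3 hn hS := by rw [← MonoidHom.comp_assoc, hP]; exact glueMap_inr π hn hS
    refine free4_of_quad hH R hφ hψ ((quad hH R hφ hψ).injective_three hS hq hγ hτ hξ ha sc dd hdd hsc ?_ ?_)
    · intro α hα
      have h1 := hX (xr α) (Finset.mem_union_left _ (Finset.mem_image_of_mem _ (by simpa using hα)))
      rw [map_commutatorElement, commutatorElement_eq_one_iff_commute] at h1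
      simp only [W, map_mul, map_inv] at h1
      refine Subtype.ext ?_
      simp only [Subgroup.coe_mul, InvMemClass.coe_inv, quad_η hH R hφ hψ, MonoidHom.comp_apply]
      rw [show ((quad hH R hφ hψ).B 2 3 (w2 hS) : Q) = f (b23 (w2 hS)) by
        rw [show f (b23 (w2 hS)) = _ from blkHom_comp π hn hS ι κ f _ _ _]
        simp [quad]
        rfl]
      exact h1.eq
    · intro r hr
      refine ⟨t1 r, t2 r, r1 r, d1 r, r2 r, d2 r, hE1 r, hE2 r, ht1 r, ht2 r, Subtype.ext ?_⟩
      have h1 := hX (xn r) (Finset.mem_union_right _ (Finset.mem_image_of_mem _ (by simpa using hr)))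
      simp only [xn, W, map_mul, map_inv] at h1
      rw [mul_inv_eq_one] at h1
      have hB : ∀ s, ((quad hH R hφ hψ).B 2 3 s : Q) = f (b23 s) := fun s => by
        rw [show f (b23 s) = _ from blkHom_comp π hn hS ι κ f _ _ _]
        simp [quad]
        rfl
      simp only [Subgroup.coe_mul, InvMemClass.coe_inv, quad_η hH R hφ hψ, hB, MonoidHom.comp_apply]
      exact h1

end Cfsg.Agent.SUSix
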