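import Cfsg.Agent.SUSix.TwoThree
import Cfsg.Agent.Phan.Four
import Cfsg.Agent.SUShort.FourInj

/-!
# Four coordinates over the field of nine elements

A group generated by blocks on the six pairs among four coordinates, in which the blocks on any three coordinates
form `SU(3, 3)` and disjoint blocks commute, maps injectively to `SU(4, 3)` as soon as four further relations
hold.
-/

set_option autoImplicit false

namespace Cfsg.Agent.SUSix

open Matrix Function Cfsg.Agent.Phan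
open Cfsg.Agent.SUShort (sub Fw FourData cv exists_pair exists_su_move exists_K)
open Cfsg.Agent.AutPSU (eS IsE UCtx suConj mat_mul_mulVec hB)

universe u v

variable {F : Type u} [Field F] [Fintype F] {σ : F →+* F} {q : ℕ} (hS : Fld σ q)
include hS

theorem uctx : UCtx σ q := ⟨hS.invol, hS.pow, hS.card_fix, hS.one⟩

theorem gen_three' [Fact (2 < q)] : (e2 hS (show (0 : Fin 3) ≠ 1 by decide)).range ⊔
    (e2 hS (show (1 : Fin 3) ≠ 2 by decide)).range = (⊤ : Subgroup (SUn 3 F q)) := by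
  rw [eq_top_iff]
  intro x _
  have hx : x ∈ (gen 0 : Subgroup (SUn 3 F q)) := by
    rw [gen_eq_lowFix hS]
    exact fun l hl => absurd hl (Nat.not_lt_zero _)
  refine (iSup₂_le fun i hi => ?_ : (gen 0 : Subgroup (SUn 3 F q)) ≤ _) hx
  rcases (show i = 0 ∨ i = 1 by omega) with rfl | rfl
  · exact le_sup_of_le_left (blk_eq hS (i := (0 : Fin 3)) (j := 1) rfl (by decide)).le
  · exact le_sup_of_le_right (blk_eq hS (i := (1 : Fin 3)) (j := 2) rfl (by decide)).le

theorem hom_ext3 [Fact (2 < q)] {M : Type v} [Monoid M] {f g : SUn 3 F q →* M}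
    (h01 : ∀ s, f (e2' hS 0 1 s) = g (e2' hS 0 1 s))
    (h12 : ∀ s, f (e2' hS 1 2 s) = g (e2' hS 1 2 s)) : f = g := by
  refine MonoidHom.ext fun x => ?_
  have : (⊤ : Subgroup (SUn 3 F q)) ≤ MonoidHom.eqLocus f g := by
    rw [← gen_three' hS]
    refine sup_le ?_ ?_ <;> rintro _ ⟨s, rfl⟩
    · have := h01 s
      rwa [e2'_eq hS (show (0 : Fin 3) ≠ 1 by decide)] at this
    · have := h12 s
      rwa [e2'_eq hS (show (1 : Fin 3) ≠ 2 by decide)] at this
  exact this (Subgroup.mem_top x)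

theorem emb_ev_smul {N m : ℕ} (c : Fin m → Fin N) (hc : Injective c) (s : SUn m F q) {a b : Fin m} {μ : F}
    (h : ap s (ev a) = μ • ev b) : ap (emb hS c hc s) (ev (c a)) = μ • ev (c b) := by
  funext i
  by_cases hi : i ∈ Set.range c
  · obtain ⟨l, rfl⟩ := hi
    rw [emb_c, ev_comp c hc, h]
    have := congrFun (ev_comp (F := F) c hc b) l
    simp only [Function.comp] at this
    simp [this]
  · rw [emb_ne hS c hc _ _ hi, ev_ne fun e => hi ⟨a, e.symm⟩, Pi.smul_apply,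
      ev_ne fun e => hi ⟨b, e.symm⟩, smul_zero]

/-- Monomial conjugation carries one plane to another. -/
theorem conj_fix {N : ℕ} {i j i' j' : Fin N} (hij : i ≠ j) (hij' : i' ≠ j') {g : SUn N F q}
    (h : ∀ l, l ≠ i' → l ≠ j' → ∃ (l' : Fin N) (μ : F), l' ≠ i ∧ l' ≠ j ∧ ap g⁻¹ (ev l) = μ • ev l')
    (s : SUn 2 F q) : g * e2 hS hij s * g⁻¹ ∈ (e2 hS hij').range := by
  rw [e2_range]
  intro l hl
  obtain ⟨l', μ, h1, h2, e⟩ := h l hl.1 hl.2
  rw [ap_mul, ap_mul, e, ap_smul, e2, emb_ev_ne hS _ _ s (notMem_range_pair.2 ⟨h1, h2⟩), ← e, ap_ap_inv]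

/-- Blocks on the pairs among four coordinates. -/
structure Quad (P : Type v) [Group P] where
  /-- the blocks -/
  B : Fin 4 → Fin 4 → SUn 2 F q →* P
  /-- the map to the special unitary group -/
  ρ : P →* SUn 4 F q
  map_B : ∀ i j (h : i ≠ j) s, ρ (B i j s) = e2 hS h s
  disj : ∀ i j k l, i ≠ j → k ≠ l → i ≠ k → i ≠ l → j ≠ k → j ≠ l → ∀ s t, Commute (B i j s) (B k l t)
  tri : ∀ c : Fin 3 → Fin 4, Injective c →
    ∃ η : SUn 3 F q →* P, ∀ a b, a ≠ b → ∀ s, η (e2' hS a b s) = B (c a) (c b) s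
  gen : ∀ S : Subgroup P, (∀ i j, i < j → (B i j).range ≤ S) → S = ⊤

namespace Quad

variable {hS} {P : Type v} [Group P] (Q : Quad hS P) [hq2 : Fact (2 < q)] {c : Fin 3 → Fin 4} (hc : Injective c)

/-- The block on three coordinates. -/
noncomputable def η : SUn 3 F q →* P := (Q.tri c hc).choose

omit hq2 in
theorem η_e2 {a b : Fin 3} (hab : a ≠ b) (s : SUn 2 F q) : Q.η hc (e2' hS a b s) = Q.B (c a) (c b) s :=
  (Q.tri c hc).choose_spec a b hab s

include hq2 in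
theorem ρη (s : SUn 3 F q) : Q.ρ (Q.η hc s) = emb hS c hc s := by
  refine DFunLike.congr_fun (hom_ext3 hS (f := Q.ρ.comp (Q.η hc)) (g := emb hS c hc) (fun t => ?_)
    fun t => ?_) s <;>
  · rw [MonoidHom.comp_apply, Q.η_e2 hc (by decide), Q.map_B _ _ (hc.ne (by decide)),
      e2'_eq hS (by decide), emb_e2]

include hq2 in
theorem eq_of_mem {x y : P} (hx : x ∈ (Q.η hc).range) (hy : y ∈ (Q.η hc).range) (e : Q.ρ x = Q.ρ y) :
    x = y := by
  obtain ⟨s, rfl⟩ := hx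
  obtain ⟨t, rfl⟩ := hy
  rw [Q.ρη, Q.ρη] at e
  rw [emb_injective hS c hc e]

omit hq2 in
theorem B_le {a b : Fin 3} (hab : a ≠ b) : (Q.B (c a) (c b)).range ≤ (Q.η hc).range := by
  rintro _ ⟨s, rfl⟩
  exact ⟨_, Q.η_e2 hc hab s⟩

include hq2 in
theorem mem_B {a b : Fin 3} (hab : a ≠ b) {x : P} (hx : x ∈ (Q.η hc).range)
    (h : Q.ρ x ∈ (e2 hS (hc.ne hab)).range) : x ∈ (Q.B (c a) (c b)).range := by
  obtain ⟨s, hs⟩ := h
  exact ⟨s, Q.eq_of_mem hc (Q.B_le hc hab ⟨s, rfl⟩) hx (by rw [Q.map_B _ _ (hc.ne hab), hs])⟩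

include hq2 in
theorem carry {x : P} {c' : Fin 3 → Fin 4} (hc' : Injective c')
    (h01 : ∀ s, x * Q.B (c 0) (c 1) s * x⁻¹ ∈ (Q.η hc').range)
    (h12 : ∀ s, x * Q.B (c 1) (c 2) s * x⁻¹ ∈ (Q.η hc').range) :
    ∀ y ∈ (Q.η hc).range, x * y * x⁻¹ ∈ (Q.η hc').range := by
  have h : (⊤ : Subgroup (SUn 3 F q)) ≤
      (Q.η hc').range.comap ((MulAut.conj x).toMonoidHom.comp (Q.η hc)) := by
    rw [← gen_three' hS]
    refine sup_le ?_ ?_ <;> rintro _ ⟨s, rfl⟩
    · simp only [Subgroup.mem_comap, MonoidHom.comp_apply, MulEquiv.coe_toMonoidHom, MulAut.conj_apply]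
      rw [← e2'_eq hS (show (0 : Fin 3) ≠ 1 by decide), Q.η_e2 hc (show (0 : Fin 3) ≠ 1 by decide)]
      exact h01 s
    · simp only [Subgroup.mem_comap, MonoidHom.comp_apply, MulEquiv.coe_toMonoidHom, MulAut.conj_apply]
      rw [← e2'_eq hS (show (1 : Fin 3) ≠ 2 by decide), Q.η_e2 hc (show (1 : Fin 3) ≠ 2 by decide)]
      exact h12 s
  rintro _ ⟨s, rfl⟩
  exact h (Subgroup.mem_top s)

include hq2 in
theorem conj_pair {a b a' b' : Fin 3} (hab : a ≠ b) (hab' : a' ≠ b') {x : P} (hx : x ∈ (Q.η hc).range)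
    (h : ∀ l, l ≠ c a' → l ≠ c b' → ∃ (l' : Fin 4) (μ : F), l' ≠ c a ∧ l' ≠ c b ∧
      ap (Q.ρ x)⁻¹ (ev l) = μ • ev l') (s : SUn 2 F q) :
    x * Q.B (c a) (c b) s * x⁻¹ ∈ (Q.B (c a') (c b')).range := by
  refine Q.mem_B hc hab' (mul_mem (mul_mem hx (Q.B_le hc hab ⟨s, rfl⟩)) (inv_mem hx)) ?_
  rw [map_mul, map_mul, map_inv, Q.map_B _ _ (hc.ne hab)]
  exact conj_fix hS (hc.ne hab) (hc.ne hab') h s

omit hq2 in
theorem conj_commute {i j k l : Fin 4} (hij : i ≠ j) (hkl : k ≠ l) (hik : i ≠ k) (hil : i ≠ l)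
    (hjk : j ≠ k) (hjl : j ≠ l) (s t : SUn 2 F q) :
    Q.B i j s * Q.B k l t * (Q.B i j s)⁻¹ = Q.B k l t := by
  rw [(Q.disj i j k l hij hkl hik hil hjk hjl s t).eq, mul_inv_cancel_right]

end Quad

omit hS in
theorem inj012 : Injective (![0, 1, 2] : Fin 3 → Fin 4) := by decide
omit hS in
theorem inj013 : Injective (![0, 1, 3] : Fin 3 → Fin 4) := by decide
omit hS in
theorem inj023 : Injective (![0, 2, 3] : Fin 3 → Fin 4) := by decide
omit hS in
theorem inj123 : Injective (![1, 2, 3] : Fin 3 → Fin 4) := by decide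

omit hS [Fintype F] in
/-- The frame on the coordinates `0`, `1`, `3`. -/
def frame (γ τ : F) (hγ : γ * σ γ = -1) (hτ : τ + σ τ = 1) : Fw 4 σ :=
  ⟨0, 1, 3, by decide, by decide, by decide, γ, τ, hγ, hτ⟩

theorem nn_zero_neg_one : nn σ (0 : F) + nn σ (-1 : F) = 1 := by simp [nn]

theorem mem_sub_pair {i j : Fin 4} (hij : i ≠ j) {g : SUn 4 F q} :
    g ∈ sub ({i, j} : Finset (Fin 4)) ↔ g ∈ (e2 hS hij).range := by
  rw [e2_range]
  exact ⟨fun h l hl => h l (by simp [hl.1, hl.2]),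
    fun h l hl => h l (by simpa using hl)⟩

theorem mem_emb_of_sub {c : Fin 3 → Fin 4} (hc : Injective c) {S : Finset (Fin 4)}
    (h : ∀ l, l ∈ S → l ∈ Set.range c) {g : SUn 4 F q} (hg : g ∈ sub S) : g ∈ (emb hS c hc).range := by
  rw [range_emb]
  exact fun l hl => hg l fun h' => hl (h l h')

theorem e2_inv_ev_ne {N : ℕ} {i j l : Fin N} (hij : i ≠ j) (s : SUn 2 F q) (h1 : l ≠ i) (h2 : l ≠ j) :
    ap (e2 hS hij s)⁻¹ (ev l) = (1 : F) • ev l := by
  rw [one_smul, ← map_inv, e2, emb_ev_ne hS _ _ _ (notMem_range_pair.2 ⟨h1, h2⟩)]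

theorem w2_ev : ap (w2 hS : SUn 2 F q) (ev 0) = (1 : F) • ev 1 ∧
    ap (w2 hS : SUn 2 F q) (ev 1) = (-1 : F) • ev 0 := by
  constructor <;> funext i <;> fin_cases i <;>
    simp [ap, w2, mx_mk2, ev, Matrix.mulVec, dotProduct, Fin.sum_univ_two]

omit hS in
theorem inv_ev {N : ℕ} {g : SUn N F q} {i j : Fin N} {μ : F} (hμ : μ ≠ 0) (h : ap g (ev i) = μ • ev j) :
    ap g⁻¹ (ev j) = μ⁻¹ • ev i := by
  rw [eq_inv_smul_iff₀ hμ, ← ap_smul, ← h, ap_inv_ap]

set_option maxHeartbeats 1600000 in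
/-- Four further relations make the blocks faithful. -/
theorem Quad.injective_three {P : Type v} [Group P] (Q : Quad hS P) (hq : q = 3) [Fact (2 < q)]
    {γ τ : F} (hγ : γ * σ γ = -1) (hτ : τ + σ τ = 1) {ξ : F} (hξ : σ ξ ≠ ξ) {a : F} (ha : nn σ a = -1)
    (sc : F → SUn 3 F q) (dd : F → F)
    (hdd : ∀ r, IsE σ (frame γ τ hγ hτ).e (r • cv (2 : Fin 4)) (dd r))
    (hsc : ∀ r, emb hS ![0, 1, 2] inj012 (sc r) =
      eS (uctx hS) (frame γ τ hγ hτ).e (r • cv (2 : Fin 4)) (dd r))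
    (rad : ∀ α, α = 1 ∨ α = ξ → Commute (Q.η inj012 (sc 1))
      (Q.B 2 3 (w2 hS) * Q.η inj012 (sc α) * (Q.B 2 3 (w2 hS))⁻¹))
    (norm : ∀ r, r = 1 ∨ r = ξ → ∃ (t1 t2 : SUn 3 F q) (r1 d1 r2 d2 : F),
      IsE σ (frame γ τ hγ hτ).e (r1 • cv (2 : Fin 4)) d1 ∧
      IsE σ (frame γ τ hγ hτ).e (r2 • cv (2 : Fin 4)) d2 ∧
      emb hS ![0, 1, 2] inj012 t1 = eS (uctx hS) (frame γ τ hγ hτ).e (r1 • cv (2 : Fin 4)) d1 ∧
      emb hS ![0, 1, 2] inj012 t2 = eS (uctx hS) (frame γ τ hγ hτ).e (r2 • cv (2 : Fin 4)) d2 ∧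
      Q.B 2 3 (s2 hS hq ha) * Q.η inj012 (sc r) * (Q.B 2 3 (s2 hS hq ha))⁻¹ =
        Q.η inj012 t1 * (Q.B 2 3 (w2 hS) * Q.η inj012 t2 * (Q.B 2 3 (w2 hS))⁻¹)) :
    Injective Q.ρ := by
  classical
  set hu := uctx hS
  set C := frame γ τ hγ hτ
  have n02 : (0 : Fin 4) ≠ 2 := by decide
  have n23 : (2 : Fin 4) ≠ 3 := by decide
  let D : FourData (F := F) q C :=
    { c := 2
      hca := show (2 : Fin 4) ≠ 0 by decide
      hcb := show (2 : Fin 4) ≠ 1 by decide
      hcw := show (2 : Fin 4) ≠ 3 by decide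
      m0 := e2 hS n02 (mk2 hS 0 (-1) (nn_zero_neg_one hS))
      hm0 := (mem_sub_pair hS n02).2 ⟨_, rfl⟩
      hm0c := by
        show ap (emb hS ![0, 2] _ _) (ev (![0, 2] 1)) = (ev 0 : Vec 4 F)
        rw [emb_ev_smul hS _ _ _ (b := 0) (μ := 1) (by
          funext i; fin_cases i <;> simp [ap, mx_mk2, ev, Matrix.mulVec, dotProduct, Fin.sum_univ_two]),
          one_smul]
        rfl
      π0 := e2 hS n23 (w2 hS)
      hπ := (mem_sub_pair hS n23).2 ⟨_, rfl⟩
      hπc := by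
        show ap (emb hS ![2, 3] _ _) (ev (![2, 3] 0)) = (ev 3 : Vec 4 F)
        rw [emb_ev_smul hS _ _ _ (b := 1) (μ := 1) (w2_ev hS).1, one_smul]
        rfl }
  -- the two blocks on three coordinates
  have h012 : ∀ g : ↥(SUShort.A4 q C), (g : SUn 4 F q) ∈ (emb hS ![0, 1, 2] inj012).range := fun g =>
    mem_emb_of_sub hS inj012 (fun l hl => by
      rcases D.univ_cases l with rfl | rfl | rfl | rfl
      exacts [⟨0, rfl⟩, ⟨1, rfl⟩, absurd rfl (Finset.mem_erase.1 hl).1, ⟨2, rfl⟩]) g.2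
  let j : ↥(SUShort.A4 q C) →* P := (Q.η inj012).comp
    ((MonoidHom.ofInjective (emb_injective hS _ inj012)).symm.toMonoidHom.comp
      (MonoidHom.mk' (fun g => (⟨_, h012 g⟩ : ↥(emb hS ![0, 1, 2] inj012).range)) fun g g' => rfl))
  have hjT : ∀ g, j g ∈ (Q.η inj012).range := fun g => ⟨_, rfl⟩
  have hj : ∀ g, Q.ρ (j g) = g := fun g => by
    show Q.ρ (Q.η inj012 _) = _
    rw [Q.ρη]
    exact congrArg Subtype.val ((MonoidHom.ofInjective (emb_injective hS _ inj012)).apply_symm_apply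
      ⟨_, h012 g⟩)
  have j_eq : ∀ (g : ↥(SUShort.A4 q C)) (s : SUn 3 F q), emb hS ![0, 1, 2] inj012 s = g →
      j g = Q.η inj012 s := fun g s e =>
    Q.eq_of_mem inj012 (hjT g) ⟨s, rfl⟩ (by rw [hj, Q.ρη, e])
  set p := Q.B 2 3 (w2 hS)
  have hp : Q.ρ p = D.π0 := Q.map_B _ _ n23 _
  have hpc : ap (D.π0)⁻¹ (ev 3) = (1 : F) • ev 2 := by
    have := inv_ev (F := F) (g := D.π0) (i := (2 : Fin 4)) (j := 3) one_ne_zero
      (emb_ev_smul hS ![2, 3] _ _ (a := 0) (b := 1) (w2_ev hS).1)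
    simpa using this
  have hpw : ap (D.π0)⁻¹ (ev 2) = (-1 : F) • ev 3 := by
    have := inv_ev (F := F) (g := D.π0) (i := (3 : Fin 4)) (j := 2) (neg_ne_zero.2 one_ne_zero)
      (emb_ev_smul hS ![2, 3] _ _ (a := 1) (b := 0) (w2_ev hS).2)
    simpa using this
  have pT : p ∈ (Q.η inj123).range := Q.B_le inj123 (show (1 : Fin 3) ≠ 2 by decide) ⟨_, rfl⟩
  have hp0 : ∀ l : Fin 4, l ≠ 2 → l ≠ 3 → ap (Q.ρ p)⁻¹ (ev l) = (1 : F) • ev l := fun l h1 h2 => by
    rw [Q.map_B _ _ n23]; exact e2_inv_ev_ne hS n23 _ h1 h2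
  -- the turn exchanges the two blocks
  have p13 : ∀ y ∈ (Q.η inj012).range, p * y * p⁻¹ ∈ (Q.η inj013).range := by
    refine Q.carry inj012 inj013 (fun s => ?_) fun s => ?_
    · rw [Q.conj_commute n23 (by decide) (by decide) (by decide) (by decide) (by decide)]
      exact Q.B_le inj013 (show (0 : Fin 3) ≠ 1 by decide) ⟨s, rfl⟩
    · refine Q.B_le inj013 (show (1 : Fin 3) ≠ 2 by decide)
        (Q.conj_pair inj123 (a := 0) (b := 1) (a' := 0) (b' := 2) (by decide) (by decide) pT ?_ s)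
      intro l h1 h2
      rcases (show l = 0 ∨ l = 1 ∨ l = 2 ∨ l = 3 by revert l; decide) with rfl | rfl | rfl | rfl
      · exact ⟨0, 1, by decide, by decide, hp0 0 (by decide) (by decide)⟩
      · exact absurd rfl h1
      · exact ⟨3, -1, by decide, by decide, by rw [hp]; exact hpw⟩
      · exact absurd rfl h2
  have p12 : ∀ y ∈ (Q.η inj013).range, p * y * p⁻¹ ∈ (Q.η inj012).range := by
    refine Q.carry inj013 inj012 (fun s => ?_) fun s => ?_
    · rw [Q.conj_commute n23 (by decide) (by decide) (by decide) (by decide) (by decide)]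
      exact Q.B_le inj012 (show (0 : Fin 3) ≠ 1 by decide) ⟨s, rfl⟩
    · refine Q.B_le inj012 (show (1 : Fin 3) ≠ 2 by decide)
        (Q.conj_pair inj123 (a := 0) (b := 2) (a' := 0) (b' := 1) (by decide) (by decide) pT ?_ s)
      intro l h1 h2
      rcases (show l = 0 ∨ l = 1 ∨ l = 2 ∨ l = 3 by revert l; decide) with rfl | rfl | rfl | rfl
      · exact ⟨0, 1, by decide, by decide, hp0 0 (by decide) (by decide)⟩
      · exact absurd rfl h1
      · exact absurd rfl h2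
      · exact ⟨2, 1, by decide, by decide, by rw [hp]; exact hpc⟩
  set ψ := D.ψ hu j p
  have ψT : ∀ t, ψ t ∈ (Q.η inj013).range := fun t => p13 _ (hjT _)
  have hψ : ∀ t, Q.ρ (ψ t) = t := fun t => by
    show Q.ρ (p * j (D.conjT hu t) * p⁻¹) = _
    rw [map_mul, map_mul, map_inv, hp, hj]
    show D.π0 * (D.π0⁻¹ * (t : SUn 4 F q) * D.π0) * D.π0⁻¹ = t
    group
  -- the section on the last two coordinates
  have hκ : ∀ (h : ↥(sub (q := q) (F := F) ({D.c, C.w} : Finset (Fin 4)))) (s : SUn 2 F q),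
      e2 hS n23 s = h → D.κ hu j p h = Q.B 2 3 s := by
    intro h s e
    have hm : j ⟨D.m0, SUShort.sub_mono D.ac_le D.hm0⟩ ∈ (Q.η inj023).range :=
      Q.B_le inj023 (show (0 : Fin 3) ≠ 1 by decide)
        (Q.mem_B inj012 (show (0 : Fin 3) ≠ 2 by decide) (hjT _) (by rw [hj]; exact ⟨_, rfl⟩))
    have ht : ψ ⟨_, SUShort.sub_mono (FourData.aw_le C) (D.cw_conj_mem hu h)⟩ ∈ (Q.η inj023).range :=
      Q.B_le inj023 (show (0 : Fin 3) ≠ 2 by decide)
        (Q.mem_B inj013 (show (0 : Fin 3) ≠ 2 by decide) (ψT _) (by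
          rw [hψ]; exact (mem_sub_pair hS (show (0 : Fin 4) ≠ 3 by decide)).1 (D.cw_conj_mem hu h)))
    refine Q.eq_of_mem inj023 (mul_mem (mul_mem hm ht) (inv_mem hm))
      (Q.B_le inj023 (show (1 : Fin 3) ≠ 2 by decide) ⟨s, rfl⟩) ?_
    rw [Q.map_B _ _ n23, e, D.κ_apply, map_mul, map_mul, map_inv, hj, hψ]
    show D.m0 * (D.m0⁻¹ * (h : SUn 4 F q) * D.m0) * D.m0⁻¹ = h
    group
  have hgen : j.range ⊔ Subgroup.zpowers p = ⊤ := by
    set S := j.range ⊔ Subgroup.zpowers p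
    have hps : p ∈ S := Subgroup.mem_sup_right (Subgroup.mem_zpowers p)
    have hT2 : (Q.η inj012).range ≤ S := by
      rintro _ ⟨s, rfl⟩
      have hm : emb hS ![0, 1, 2] inj012 s ∈ SUShort.A4 q C := fun l hl => by
        obtain rfl : l = C.w := by simpa using hl
        exact emb_ev_ne hS _ inj012 s (by rintro ⟨i, hi⟩; revert hi; show ![0, 1, 2] i = (3 : Fin 4) → False; revert i; decide)
      exact Subgroup.mem_sup_left ⟨⟨_, hm⟩, j_eq _ s rfl⟩
    have hψS : ∀ t, ψ t ∈ S := fun t =>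
      mul_mem (mul_mem hps (Subgroup.mem_sup_left ⟨_, rfl⟩)) (inv_mem hps)
    have hT3 : (Q.η inj013).range ≤ S := by
      rintro x hx
      obtain ⟨s, rfl⟩ := hx
      have hm : emb hS ![0, 1, 3] inj013 s ∈ sub C.P3 := fun l hl =>
        emb_ev_ne hS _ inj013 s (by rintro ⟨i, rfl⟩; revert hl; fin_cases i <;> simp [Fw.P3, C, frame])
      have := hψS ⟨_, hm⟩
      rwa [Q.eq_of_mem inj013 (ψT _) ⟨s, rfl⟩ (by rw [hψ, Q.ρη])] at this
    have hκS : ∀ h, D.κ hu j p h ∈ S := fun h =>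
      mul_mem (mul_mem (Subgroup.mem_sup_left ⟨_, rfl⟩) (hψS _)) (inv_mem (Subgroup.mem_sup_left ⟨_, rfl⟩))
    refine Q.gen S fun i k hik => ?_
    have h23 : (Q.B 2 3).range ≤ S := by
      rintro _ ⟨s, rfl⟩
      rw [← hκ ⟨_, (mem_sub_pair hS n23).2 ⟨s, rfl⟩⟩ s rfl]
      exact hκS _
    fin_cases i <;> fin_cases k <;> first
      | exact absurd hik (by decide)
      | exact h23
      | exact le_trans (Q.B_le inj012 (a := 0) (b := 1) (by decide)) hT2
      | exact le_trans (Q.B_le inj012 (a := 0) (b := 2) (by decide)) hT2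
      | exact le_trans (Q.B_le inj012 (a := 1) (b := 2) (by decide)) hT2
      | exact le_trans (Q.B_le inj013 (a := 0) (b := 2) (by decide)) hT3
      | exact le_trans (Q.B_le inj013 (a := 1) (b := 2) (by decide)) hT3
  have hψ_of : ∀ (t : ↥(sub (q := q) (F := F) C.P3)) (x : P), x ∈ (Q.η inj013).range → Q.ρ x = t →
      ψ t = x := fun t x hx e => Q.eq_of_mem inj013 (ψT t) hx (by rw [hψ, e])
  have hj_of : ∀ (g : ↥(SUShort.A4 q C)) (x : P), x ∈ (Q.η inj012).range → Q.ρ x = g →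
      j g = x := fun g x hx e => Q.eq_of_mem inj012 (hjT g) hx (by rw [hj, e])
  -- unipotent seeds
  have hπe : ap D.π0 C.e = C.e := SUShort.fix_of_supp D.hπ fun i hi => C.e_supp i (by
    simp only [Finset.mem_insert, Finset.mem_singleton] at hi
    rcases hi with rfl | rfl <;> simp [Fw.P2, C, D, frame])
  have hπw : ap D.π0 (ev 3) = (-1 : F) • ev 2 :=
    emb_ev_smul hS ![2, 3] _ _ (a := 1) (b := 0) (w2_ev hS).2
  have econj : ∀ (g : SUn 4 F q), ap g C.e = C.e → ∀ (i i' : Fin 4) (c0 : F), ap g (ev i) = c0 • ev i' →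
      ∀ (r d : F), IsE σ C.e (r • cv i) d → IsE σ C.e ((r * c0) • cv i') d ∧
        g * eS hu C.e (r • cv i) d * g⁻¹ = eS hu C.e ((r * c0) • cv i') d := by
    intro g hge i i' c0 hgi r d hE
    have hv : ap g (r • cv i) = (r * c0) • cv i' := by
      rw [ap_smul, show (cv i : Vec 4 F) = ev i from rfl, hgi, smul_smul]; rfl
    have h1 := hE.conjS hu g
    have h2 := suConj hu g hE
    change IsE σ (ap g C.e) (ap g (r • cv i)) d at h1
    change g * _ * g⁻¹ = eS hu (ap g C.e) (ap g (r • cv i)) d at h2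
    rw [hge, hv] at h1 h2
    exact ⟨h1, h2⟩
  have hπc' : ap D.π0 (ev 2) = (1 : F) • ev 3 := emb_ev_smul hS ![2, 3] _ _ (a := 0) (b := 1) (w2_ev hS).1
  have pec : ∀ (r d : F) (hE : IsE σ C.e (r • cv D.c) d) (hE' : IsE σ C.e (r • cv C.w) d),
      p * j ⟨_, D.eSc_mem hu hE⟩ * p⁻¹ = ψ ⟨_, FourData.eSw_mem hu hE'⟩ := by
    intro r d hE hE'
    refine (hψ_of _ _ (p13 _ (hjT _)) ?_).symm
    rw [map_mul, map_mul, map_inv, hp, hj]
    have := (econj D.π0 hπe 2 3 1 hπc' r d hE).2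
    rwa [mul_one] at this
  have pew : ∀ (r d : F) (hE' : IsE σ C.e (r • cv C.w) d), ∃ hE : IsE σ C.e ((-r) • cv D.c) d,
      p * ψ ⟨_, FourData.eSw_mem hu hE'⟩ * p⁻¹ = j ⟨_, D.eSc_mem hu hE⟩ := by
    intro r d hE'
    obtain ⟨h1, h2⟩ := econj D.π0 hπe 3 2 (-1) hπw r d hE'
    rw [mul_neg_one] at h1 h2
    refine ⟨h1, (hj_of _ _ (p12 _ (ψT _)) ?_).symm⟩
    rw [map_mul, map_mul, map_inv, hp, hψ]
    exact h2
  have toW : ∀ (r d : F), IsE σ C.e (r • cv D.c) d → IsE σ C.e (r • cv C.w) d := by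
    intro r d hE
    have := (econj D.π0 hπe 2 3 1 hπc' r d hE).1
    rwa [mul_one] at this
  -- the tori
  have hH := hu.isHerm 4
  obtain ⟨l0, hl0⟩ := IsCyclic.exists_generator (α := Fˣ)
  obtain ⟨k, hk, hke, hkf, hkc⟩ := exists_K hu C D.hca D.hcb l0.ne_zero
  set μ : F := σ (l0 : F) / (l0 : F) with hμ
  have hl0' : (l0 : F) ≠ 0 := l0.ne_zero
  have hσl0 : σ (l0 : F) ≠ 0 := (map_ne_zero σ).2 hl0'
  have hμ0 : μ ≠ 0 := div_ne_zero hσl0 hl0'
  have hμ1 : μ * σ μ = 1 := by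
    rw [hμ, map_div₀, hS.sigma_sigma]
    field_simp
  obtain ⟨y, hy, hyc⟩ := exists_su_move hu (S := ({1, 2} : Finset (Fin 4))) (v := cv 2) (v' := μ • cv 2)
    (SUShort.supp_cv (by simp)) ((SUShort.supp_cv (by simp)).smul μ) (by simp [cv])
    (smul_ne_zero hμ0 (by simp [cv]))
    (by rw [Classical.Herm.smul_self hH, hμ1, one_mul])
    (Or.inr ⟨le_rfl, by simp [SUShort.hB_cv_cv]⟩)
  set x := k * y⁻¹
  have hy3 : y ∈ sub ((Finset.univ : Finset (Fin 4)).erase C.w) := SUShort.sub_mono (show ({1, 2} : Finset (Fin 4)) ⊆ (Finset.univ : Finset (Fin 4)).erase 3 by decide) hy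
  have hx3 : x ∈ sub ((Finset.univ : Finset (Fin 4)).erase C.w) :=
    mul_mem (SUShort.sub_mono D.erase_eq.ge hk) (inv_mem hy3)
  have hyi : ap y⁻¹ (ev 2) = μ⁻¹ • ev 2 := inv_ev hμ0 hyc
  have hxc : ap x (ev 2) = ev 2 := by
    rw [ap_mul, hyi, ap_smul]
    show μ⁻¹ • (mx k *ᵥ cv 2) = _
    rw [show mx k *ᵥ cv 2 = μ • cv D.c from hkc, smul_smul, inv_mul_cancel₀ hμ0, one_smul]
    rfl
  have hx01 : x ∈ (e2 hS (show (0 : Fin 4) ≠ 1 by decide)).range := by
    refine (mem_sub_pair hS _).1 fun l hl => ?_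
    rcases D.univ_cases l with rfl | rfl | rfl | rfl
    · exact absurd (show (0 : Fin 4) ∈ ({0, 1} : Finset (Fin 4)) by simp) hl
    · exact absurd (show (1 : Fin 4) ∈ ({0, 1} : Finset (Fin 4)) by simp) hl
    · exact hx3 _ (Finset.notMem_erase _ _)
    · exact hxc
  set k0 : ↥(SUShort.A4 q C) := ⟨k, SUShort.sub_mono D.erase_eq.ge hk⟩
  set X := j ⟨x, hx3⟩
  set Y := j ⟨y, hy3⟩
  have hXY : j k0 = X * Y := by
    rw [← map_mul]; exact congrArg j (Subtype.ext (inv_mul_cancel_right k y).symm)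
  have hY : Y ∈ (Q.B 1 2).range := Q.mem_B inj012 (show (1 : Fin 3) ≠ 2 by decide) (hjT _)
    (by rw [hj]; exact (mem_sub_pair hS _).1 hy)
  have hX : X ∈ (Q.η inj013).range := Q.B_le inj013 (show (0 : Fin 3) ≠ 1 by decide)
    (Q.mem_B inj012 (show (0 : Fin 3) ≠ 1 by decide) (hjT _) (by rw [hj]; exact hx01))
  have hY3 : ap y⁻¹ (ev 3) = (1 : F) • ev 3 := by rw [one_smul]; exact inv_mem hy 3 (by decide)
  have hY0 : ap y⁻¹ (ev 0) = (1 : F) • ev 0 := by rw [one_smul]; exact inv_mem hy 0 (by decide)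
  have k013 : ∀ u ∈ (Q.η inj013).range, j k0 * u * (j k0)⁻¹ ∈ (Q.η inj013).range := by
    intro u hu'
    have hYu : Y * u * Y⁻¹ ∈ (Q.η inj013).range := by
      refine Q.carry inj013 inj013 (fun s => ?_) (fun s => ?_) u hu'
      · refine Q.B_le inj013 (show (0 : Fin 3) ≠ 1 by decide) (Q.conj_pair inj012 (a := 0) (b := 1) (a' := 0) (b' := 1)
          (by decide) (by decide) (hjT _) ?_ s)
        intro l h1 h2
        rw [show Q.ρ Y = y from hj _]
        rcases (show l = 0 ∨ l = 1 ∨ l = 2 ∨ l = 3 by revert l; decide) with rfl | rfl | rfl | rfl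
        · exact absurd rfl h1
        · exact absurd rfl h2
        · exact ⟨2, _, by decide, by decide, hyi⟩
        · exact ⟨3, _, by decide, by decide, hY3⟩
      · refine Q.B_le inj013 (show (1 : Fin 3) ≠ 2 by decide) (Q.conj_pair inj123 (a := 0) (b := 2) (a' := 0) (b' := 2)
          (by decide) (by decide) (Q.B_le inj123 (show (0 : Fin 3) ≠ 1 by decide) hY) ?_ s)
        intro l h1 h2
        rw [show Q.ρ Y = y from hj _]
        rcases (show l = 0 ∨ l = 1 ∨ l = 2 ∨ l = 3 by revert l; decide) with rfl | rfl | rfl | rfl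
        · exact ⟨0, _, by decide, by decide, hY0⟩
        · exact absurd rfl h1
        · exact ⟨2, _, by decide, by decide, hyi⟩
        · exact absurd rfl h2
    rw [hXY, show X * Y * u * (X * Y)⁻¹ = X * (Y * u * Y⁻¹) * X⁻¹ by group]
    exact mul_mem (mul_mem hX hYu) (inv_mem hX)
  obtain ⟨z0, hz0, hz1⟩ := SUGen.exists_norm_one hu
  have hz00 : z0 ≠ 0 := left_ne_zero_of_mul_eq_one hz1
  obtain ⟨t, ht, htw⟩ := exists_su_move hu (S := ({0, 3} : Finset (Fin 4))) (v := cv 3) (v' := z0 • cv 3)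
    (SUShort.supp_cv (by simp)) ((SUShort.supp_cv (by simp)).smul z0) (by simp [cv])
    (smul_ne_zero hz00 (by simp [cv]))
    (by rw [Classical.Herm.smul_self hH, hz1, one_mul])
    (Or.inr ⟨le_rfl, by simp [SUShort.hB_cv_cv]⟩)
  set t0 : ↥(sub (q := q) (F := F) C.P3) := ⟨t, SUShort.sub_mono (FourData.aw_le C) ht⟩
  have hT0 : ψ t0 ∈ (Q.B 0 3).range := Q.mem_B inj013 (show (0 : Fin 3) ≠ 2 by decide) (ψT _)
    (by rw [hψ]; exact (mem_sub_pair hS _).1 ht)
  have hti : ap t⁻¹ (ev 3) = z0⁻¹ • ev 3 := inv_ev hz00 htw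
  have ht2 : ap t⁻¹ (ev 2) = (1 : F) • ev 2 := by rw [one_smul]; exact inv_mem ht 2 (by decide)
  have t012 : ∀ u ∈ (Q.η inj012).range, ψ t0 * u * (ψ t0)⁻¹ ∈ (Q.η inj012).range := by
    refine Q.carry inj012 inj012 (fun s => ?_) fun s => ?_
    · refine Q.B_le inj012 (show (0 : Fin 3) ≠ 1 by decide) (Q.conj_pair inj013 (a := 0) (b := 1) (a' := 0) (b' := 1)
        (by decide) (by decide) (ψT _) ?_ s)
      intro l h1 h2
      rw [hψ]
      rcases (show l = 0 ∨ l = 1 ∨ l = 2 ∨ l = 3 by revert l; decide) with rfl | rfl | rfl | rfl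
      · exact absurd rfl h1
      · exact absurd rfl h2
      · exact ⟨2, _, by decide, by decide, ht2⟩
      · exact ⟨3, _, by decide, by decide, hti⟩
    · obtain ⟨s', hs'⟩ := hT0
      rw [← hs', Q.conj_commute (by decide) (by decide) (by decide) (by decide) (by decide) (by decide)]
      exact Q.B_le inj012 (show (1 : Fin 3) ≠ 2 by decide) ⟨s, rfl⟩
  -- the diagonal element normalises the unipotent group
  set M := Q.B 2 3 (dz hS ha)
  set m := e2 hS n23 (dz hS ha)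
  have hM : Q.ρ M = m := Q.map_B _ _ n23 _
  set z : F := σ a * σ a
  have hz : z ≠ 0 := fun e => by
    have := root_sq hS hq ha
    rw [show σ a * σ a = (0 : F) from e] at this
    simp at this
  have hσz : σ z ≠ 0 := (map_ne_zero σ).2 hz
  have dz0 : ap (dz hS ha) (ev 0) = z • ev 0 := by
    funext i; fin_cases i <;> simp [ap, dz, mx_mk2, ev, z, Matrix.mulVec, dotProduct, Fin.sum_univ_two]
  have dz1 : ap (dz hS ha) (ev 1) = σ z • ev 1 := by
    funext i; fin_cases i <;> simp [ap, dz, mx_mk2, ev, z, Matrix.mulVec, dotProduct, Fin.sum_univ_two]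
  have hm2 : ap m (ev 2) = z • ev 2 := emb_ev_smul hS ![2, 3] _ _ (a := 0) (b := 0) dz0
  have hm3 : ap m (ev 3) = σ z • ev 3 := emb_ev_smul hS ![2, 3] _ _ (a := 1) (b := 1) dz1
  have hme : ap m C.e = C.e := SUShort.fix_of_supp ((mem_sub_pair hS n23).2 ⟨_, rfl⟩) fun i hi =>
    C.e_supp i (by
      simp only [Finset.mem_insert, Finset.mem_singleton] at hi
      rcases hi with rfl | rfl <;> simp [Fw.P2, C, frame])
  have hm0 : ap m⁻¹ (ev 0) = (1 : F) • ev 0 := e2_inv_ev_ne hS n23 _ (by decide) (by decide)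
  have MT : M ∈ (Q.η inj123).range := Q.B_le inj123 (show (1 : Fin 3) ≠ 2 by decide) ⟨_, rfl⟩
  have M12 : ∀ u ∈ (Q.η inj012).range, M * u * M⁻¹ ∈ (Q.η inj012).range := by
    refine Q.carry inj012 inj012 (fun s => ?_) fun s => ?_
    · rw [Q.conj_commute n23 (by decide) (by decide) (by decide) (by decide) (by decide)]
      exact Q.B_le inj012 (show (0 : Fin 3) ≠ 1 by decide) ⟨s, rfl⟩
    · refine Q.B_le inj012 (show (1 : Fin 3) ≠ 2 by decide)
        (Q.conj_pair inj123 (a := 0) (b := 1) (a' := 0) (b' := 1) (by decide) (by decide) MT ?_ s)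
      intro l h1 h2
      rw [hM]
      rcases (show l = 0 ∨ l = 1 ∨ l = 2 ∨ l = 3 by revert l; decide) with rfl | rfl | rfl | rfl
      · exact ⟨0, _, by decide, by decide, hm0⟩
      · exact absurd rfl h1
      · exact absurd rfl h2
      · exact ⟨3, _, by decide, by decide, inv_ev hσz hm3⟩
  have M13 : ∀ u ∈ (Q.η inj013).range, M * u * M⁻¹ ∈ (Q.η inj013).range := by
    refine Q.carry inj013 inj013 (fun s => ?_) fun s => ?_
    · rw [Q.conj_commute n23 (by decide) (by decide) (by decide) (by decide) (by decide)]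
      exact Q.B_le inj013 (show (0 : Fin 3) ≠ 1 by decide) ⟨s, rfl⟩
    · refine Q.B_le inj013 (show (1 : Fin 3) ≠ 2 by decide)
        (Q.conj_pair inj123 (a := 0) (b := 2) (a' := 0) (b' := 2) (by decide) (by decide) MT ?_ s)
      intro l h1 h2
      rw [hM]
      rcases (show l = 0 ∨ l = 1 ∨ l = 2 ∨ l = 3 by revert l; decide) with rfl | rfl | rfl | rfl
      · exact ⟨0, _, by decide, by decide, hm0⟩
      · exact absurd rfl h1
      · exact ⟨2, _, by decide, by decide, inv_ev hz hm2⟩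
      · exact absurd rfl h2
  have MN : D.N hu j p ≤ (D.N hu j p).comap (MulAut.conj M).toMonoidHom := by
    refine sup_le ((Subgroup.closure_le _).2 ?_) ((Subgroup.closure_le _).2 ?_)
    · rintro _ ⟨r, d, hmem, hE, rfl⟩
      obtain ⟨h1, h2⟩ := econj m hme 2 2 z hm2 r d hE
      show M * _ * M⁻¹ ∈ D.N hu j p
      rw [← hj_of ⟨_, D.eSc_mem hu h1⟩ _ (M12 _ (hjT _)) (by rw [map_mul, map_mul, map_inv, hM, hj]; exact h2)]
      exact Subgroup.mem_sup_left (Subgroup.subset_closure ⟨_, _, _, h1, rfl⟩)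
    · rintro _ ⟨r, d, hmem, hE, rfl⟩
      obtain ⟨h1, h2⟩ := econj m hme 3 3 (σ z) hm3 r d hE
      show M * _ * M⁻¹ ∈ D.N hu j p
      rw [← hψ_of ⟨_, FourData.eSw_mem hu h1⟩ _ (M13 _ (ψT _)) (by rw [map_mul, map_mul, map_inv, hM, hψ]; exact h2)]
      exact Subgroup.mem_sup_right (Subgroup.subset_closure ⟨_, _, _, h1, rfl⟩)
  -- the pair of generators on the last two coordinates
  let f : SUn 2 F q →* ↥(sub (q := q) (F := F) ({D.c, C.w} : Finset (Fin 4))) :=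
    (e2 hS n23).codRestrict _ fun s => (mem_sub_pair hS n23).2 ⟨s, rfl⟩
  have hf : Surjective f := fun h => by
    obtain ⟨s, hs⟩ := (mem_sub_pair hS n23).1 h.2
    exact ⟨s, Subtype.ext hs⟩
  set K := Q.B 2 3 (s2 hS hq ha)
  have hκf : ∀ s, D.κ hu j p (f s) = Q.B 2 3 s := fun s => hκ _ s rfl
  have jsc : ∀ r, j ⟨_, D.eSc_mem hu (hdd r)⟩ = Q.η inj012 (sc r) := fun r => j_eq _ _ (hsc r)
  have R : D.Rel hu j p Q.ρ k0 l0 t0 z0 ξ (f (w2 hS)) (f (s2 hS hq ha)) :=
    { three := hq.ge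
      hj := hj
      hp := hp
      gen := hgen
      mon := (hκ ⟨D.π0, D.hπ⟩ _ rfl).symm
      anis := fun g s hg hs => by
        obtain ⟨s1, hs1⟩ := Q.mem_B inj012 (show (1 : Fin 3) ≠ 2 by decide) (hjT g)
          (by rw [hj]; exact (mem_sub_pair hS _).1 hg)
        obtain ⟨s2', hs2⟩ := Q.mem_B inj013 (show (0 : Fin 3) ≠ 2 by decide) (ψT s)
          (by rw [hψ]; exact (mem_sub_pair hS _).1 hs)
        show Commute (j g) (ψ s)
        rw [← hs1, ← hs2]
        exact Q.disj 1 2 0 3 (by decide) (by decide) (by decide) (by decide) (by decide) (by decide) _ _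
      k0e := hke
      k0f := hkf
      l0gen := hl0
      twist := fun s s' e =>
        (hψ_of s' _ (k013 _ (ψT s)) (by rw [map_mul, map_mul, map_inv, hj, hψ]; exact e)).symm
      t0w := htw
      z0ord := hz0
      tor := fun g g' e =>
        (hj_of g' _ (t012 _ (hjT g)) (by rw [map_mul, map_mul, map_inv, hψ, hj]; exact e)).symm
      hξ := hξ
      rad := fun α hα => by
        refine ⟨dd 1, dd α, D.eSc_mem hu (hdd 1), FourData.eSw_mem hu (toW _ _ (hdd α)), hdd 1,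
          toW _ _ (hdd α), ?_⟩
        show Commute (j _) (ψ _)
        rw [← pec α (dd α) (hdd α) (toW _ _ (hdd α)), jsc, jsc]
        exact rad α hα
      hgen := by
        rw [← Set.image_pair, ← MonoidHom.map_closure, closure_two hS hq ha,
          Subgroup.map_top_of_surjective f hf]
      norm := by
        rintro h (rfl | rfl) r hr
        · rw [hκf]
          refine ⟨⟨dd r, D.eSc_mem hu (hdd r), hdd r, ?_⟩, dd r, FourData.eSw_mem hu (toW _ _ (hdd r)),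
            toW _ _ (hdd r), ?_⟩
          · rw [show Q.B 2 3 (w2 hS) = p from rfl, pec r (dd r) (hdd r) (toW _ _ (hdd r))]
            exact Subgroup.mem_sup_right (Subgroup.subset_closure ⟨_, _, _, toW _ _ (hdd r), rfl⟩)
          · obtain ⟨hE, e⟩ := pew r (dd r) (toW _ _ (hdd r))
            show p * ψ _ * p⁻¹ ∈ D.N hu j p
            rw [e]
            exact Subgroup.mem_sup_left (Subgroup.subset_closure ⟨_, _, _, hE, rfl⟩)
        · have hc : K * Q.η inj012 (sc r) * K⁻¹ ∈ D.N hu j p := by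
            obtain ⟨t1, t2, r1, d1, r2, d2, hE1, hE2, e1, e2', e⟩ := norm r hr
            rw [e, ← j_eq ⟨_, D.eSc_mem hu hE1⟩ t1 e1, ← j_eq ⟨_, D.eSc_mem hu hE2⟩ t2 e2',
              pec r2 d2 hE2 (toW _ _ hE2)]
            exact mul_mem (Subgroup.mem_sup_left (Subgroup.subset_closure ⟨_, _, _, hE1, rfl⟩))
              (Subgroup.mem_sup_right (Subgroup.subset_closure ⟨_, _, _, toW _ _ hE2, rfl⟩))
          rw [hκf]
          refine ⟨⟨dd r, D.eSc_mem hu (hdd r), hdd r, by rw [jsc]; exact hc⟩, dd r,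
            FourData.eSw_mem hu (toW _ _ (hdd r)), toW _ _ (hdd r), ?_⟩
          show K * ψ _ * K⁻¹ ∈ D.N hu j p
          have hKp : K * p = M * K := by rw [← map_mul, s2_turn hS hq ha, map_mul]
          rw [← pec r (dd r) (hdd r) (toW _ _ (hdd r)), jsc, show K * (p * Q.η inj012 (sc r) * p⁻¹) * K⁻¹ =
            (K * p) * Q.η inj012 (sc r) * (K * p)⁻¹ by group, hKp,
            show M * K * Q.η inj012 (sc r) * (M * K)⁻¹ = M * (K * Q.η inj012 (sc r) * K⁻¹) * M⁻¹ by group]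
          exact MN hc }
  exact R.injective

end Cfsg.Agent.SUSix
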