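import Cfsg.Agent.SUSix.Enum.Check
import Cfsg.Agent.SUSix.Quad
import Cfsg.Agent.SUShort.ThreeTwo
import Cfsg.Agent.SUShort.Local
import Cfsg.Agent.SLShort.Pres

/-!
# `SU(4, 2)` has a presentation on two generators with five relations
-/

set_option autoImplicit false

namespace Cfsg.Agent.SUSix.U42

open Matrix Function Cfsg.Agent.Phan Cfsg.Agent.CosetCert Cfsg.Agent.SUShort
open Cfsg.Agent.ThreeTrans.SU32 (F4)
open Cfsg.Agent.ThreeTrans.SU32.F4
open Cfsg.Agent.Classical.Herm (fixField)

/-- The field data of four elements. -/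
theorem fld4 : Fld frob 2 := ⟨frob_pow, frob_invol, card_fix, by norm_num⟩

/-- The form on four coordinates. -/
def form4 (u v : Fin 4 → F4) : F4 :=
  u 0 * u 0 * v 0 + u 1 * u 1 * v 1 + u 2 * u 2 * v 2 + u 3 * u 3 * v 3

/-- An element of `SU(4, 2)` from a matrix. -/
def mk4 (M : Matrix (Fin 4) (Fin 4) F4) (hd : M.det = 1)
    (h : ∀ i j, form4 (fun k => M k i) (fun k => M k j) = if i = j then 1 else 0) : SUn 4 F4 2 :=
  ⟨⟨M, hd⟩, (Classical.mem_SU_iff frob_pow _).2 ((Classical.preserves_iff_cols M).2 fun i j => by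
    simp only [Matrix.mulVec_single_one]
    rw [Classical.hermB_apply, Fin.sum_univ_four]
    exact h i j)⟩

/-- The involution. -/
def ea : SUn 4 F4 2 :=
  mk4 (Matrix.of ![![e, o, o, o], ![o, e, o, o], ![o, o, o, e], ![o, o, e, o]]) (by decide +kernel)
    (by decide +kernel)

/-- The element of order five. -/
def eb : SUn 4 F4 2 :=
  mk4 (Matrix.of ![![e, e, e, o], ![o, e, e, e], ![w', o, w', w'], ![w, w, o, w]]) (by decide +kernel)
    (by decide +kernel)

/-- The images of the letters. -/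
def img : Fin 2 → SUn 4 F4 2 := ![ea, eb]

/-- The relators. -/
def rels : Finset (FreeGroup (Fin 2)) := (Enum.relWords.map FreeGroup.mk).toFinset

theorem card_rels : rels.card ≤ 5 := (List.toFinset_card_le _).trans (by simp [Enum.relWords])

theorem img_words : ∀ l ∈ Enum.relWords,
    mx ((l.map fun x => cond x.2 (img x.1) (img x.1)⁻¹).prod) = 1 := by
  decide +kernel

/-- The presented group. -/
abbrev G2 := PresentedGroup (↑rels : Set (FreeGroup (Fin 2)))

theorem rels_hold : ∀ r ∈ (↑rels : Set (FreeGroup (Fin 2))), FreeGroup.lift img r = 1 := by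
  intro r hr
  obtain ⟨l, hl, rfl⟩ := List.mem_map.1 (List.mem_toFinset.1 (Finset.mem_coe.1 hr))
  rw [FreeGroup.lift_mk]
  exact Subtype.ext (Subtype.ext (img_words l hl))

/-- The map onto `SU(4, 2)`. -/
def toSU : G2 →* SUn 4 F4 2 := PresentedGroup.toGroup rels_hold

/-- The numbering of the letters. -/
def enc (b : Fin 2) : ℕ := b.val

/-- The letter of a number. -/
def dec (x : ℕ) : Fin 2 × Bool := if x = 0 then (0, true) else if x = 1 then (1, true) else (1, false)

theorem mk_rel {l : List (Fin 2 × Bool)} (hl : l ∈ Enum.relWords) :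
    PresentedGroup.mk (↑rels : Set (FreeGroup (Fin 2))) (FreeGroup.mk l) = 1 :=
  PresentedGroup.one_of_mem (List.mem_toFinset.2 (List.mem_map_of_mem hl))

theorem spells : Data.Spells Enum.data (↑rels : Set (FreeGroup (Fin 2))) [FreeGroup.of (1 : Fin 2)] enc dec
    Enum.relWords where
  enc_lt b := by fin_cases b <;> exact ⟨by decide, rfl⟩
  inv_letter x hx := by
    change x < 3 at hx
    rw [← map_mul, FreeGroup.mul_mk]
    interval_cases x
    · exact mk_rel (l := [(0, true), (0, true)]) (by decide)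
    · show PresentedGroup.mk _ (FreeGroup.mk [((1 : Fin 2), false), (1, true)]) = 1
      rw [show FreeGroup.mk [((1 : Fin 2), false), (1, true)] = 1 by decide, map_one]
    · show PresentedGroup.mk _ (FreeGroup.mk [((1 : Fin 2), true), (1, false)]) = 1
      rw [show FreeGroup.mk [((1 : Fin 2), true), (1, false)] = 1 by decide, map_one]
  rels_one _ hl := mk_rel hl
  rels_mem r hr := Subgroup.subset_normalClosure (List.mem_toFinset.1 (Finset.mem_coe.1 hr))
  take_eq := by decide +kernel
  code_dec := by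
    show ∀ x, x < 3 → _
    intro x hx
    interval_cases x <;> rfl
  drop_eq := by decide +kernel

theorem card_le : Finite G2 ∧ Nat.card G2 ≤ 25920 := by
  obtain ⟨h0, hle⟩ := Data.index_le Enum.log_valid spells
  set b : G2 := PresentedGroup.mk _ (FreeGroup.of 1)
  have hsub : Data.sub (↑rels : Set (FreeGroup (Fin 2))) [FreeGroup.of (1 : Fin 2)] =
      Subgroup.zpowers b := by
    rw [Data.sub, show {s | s ∈ [FreeGroup.of (1 : Fin 2)]} = ({FreeGroup.of (1 : Fin 2)} : Set _) by
      ext s; simp, ← Subgroup.zpowers_eq_closure, MonoidHom.map_zpowers]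
  rw [hsub] at h0 hle
  have hb : b ^ 5 = 1 := by
    rw [← map_pow, show (FreeGroup.of (1 : Fin 2)) ^ 5 = FreeGroup.mk [(1, true), (1, true), (1, true),
      (1, true), (1, true)] by decide]
    exact mk_rel (by decide)
  have h5 : orderOf b ≤ 5 := Nat.le_of_dvd (by norm_num) (orderOf_dvd_of_pow_eq_one hb)
  have hfin : IsOfFinOrder b := isOfFinOrder_iff_pow_eq_one.2 ⟨5, by norm_num, hb⟩
  have hc : Nat.card G2 = (Subgroup.zpowers b).index * orderOf b := by
    rw [← Nat.card_zpowers, mul_comm, Subgroup.card_mul_index]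
  refine ⟨Nat.finite_of_card_ne_zero ?_, hc ▸ (Nat.mul_le_mul hle h5).trans (le_of_eq rfl)⟩
  rw [hc]
  exact mul_ne_zero h0 hfin.orderOf_pos.ne'

theorem card_su : Nat.card (SUn 4 F4 2) = 25920 := by
  have h := Classical.card_SU_mul_eq_GU (n := 4) (q := 2) frob_invol frob_pow card_fix (by norm_num)
  rw [Classical.card_GU_formula frob_invol frob_pow card_fix] at h
  simp [Finset.prod_range_succ, show ¬ Even 3 by decide] at h
  show Nat.card (Cfsg.SU 4 F4 2) = _
  omega

theorem eq_emb {c : Fin 3 → Fin 4} (hc : Injective c) {g : SUn 4 F4 2} {s : SUn 3 F4 2}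
    (h1 : ∀ l, (∀ a, c a ≠ l) → ∀ k, mx g k l = if k = l then 1 else 0)
    (h2 : ∀ i j, mx g (c i) (c j) = mx s i j) : g = emb fld4 c hc s := by
  obtain ⟨t, ht⟩ : g ∈ (emb fld4 c hc).range := by
    rw [range_emb]
    intro l hl
    funext k
    rw [show ap g (ev l) k = mx g k l by simp [ap, ev, Matrix.mulVec_single_one],
      h1 l fun a e => hl ⟨a, e⟩, ev, Pi.single_apply]
  have : t = s := Subtype.ext (Subtype.ext (Matrix.ext fun i j => by
    show mx t i j = mx s i j
    rw [← h2 i j, ← ht]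
    have := emb_c fld4 c hc t (ev (c j)) i
    rw [ev_comp c hc] at this
    simpa [ap, ev, Matrix.mulVec_single_one] using this.symm))
  rw [← ht, this]

/-- The product of a word in the generators. -/
def word (l : List (Fin 2)) : SUn 4 F4 2 := (l.map img).prod

theorem word_mem (l : List (Fin 2)) : word l ∈ toSU.range := by
  refine list_prod_mem fun x hx => ?_
  obtain ⟨i, -, rfl⟩ := List.mem_map.1 hx
  exact ⟨PresentedGroup.of i, PresentedGroup.toGroup.of rels_hold⟩

theorem triple_le {c : Fin 3 → Fin 4} (hc : Injective c) (l1 l2 : List (Fin 2))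
    (h1 : word l1 = emb fld4 c hc ThreeTrans.SU32.ga) (h2 : word l2 = emb fld4 c hc SUShort.gy) :
    (emb fld4 c hc).range ≤ toSU.range := by
  rw [MonoidHom.range_eq_map, ← SUShort.closure_F4, MonoidHom.map_closure, Set.image_pair,
    Subgroup.closure_le]
  rintro _ (rfl | rfl)
  · exact h1 ▸ word_mem l1
  · exact h2 ▸ word_mem l2

theorem surj : Surjective toSU := by
  have t2 : (emb fld4 ![0, 1, 2] inj012).range ≤ toSU.range :=
    triple_le inj012 [0, 1, 0, 1, 1, 1, 0, 1, 1, 0, 1, 1, 0, 1, 0, 1, 1, 1, 0, 1, 1, 1, 0, 1, 0, 1] [0, 1, 1, 1, 0, 1, 0, 1, 0, 1, 1, 0, 1, 1, 1, 1, 0]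
      (eq_emb inj012 (by decide +kernel) (by intro i j; fin_cases i <;> fin_cases j <;> decide +kernel)) (eq_emb inj012 (by decide +kernel) (by intro i j; fin_cases i <;> fin_cases j <;> decide +kernel))
  have t3 : (emb fld4 ![0, 1, 3] inj013).range ≤ toSU.range :=
    triple_le inj013 [0, 1, 0, 1, 1, 1, 0, 1, 0, 1, 1, 0, 1, 1, 0, 1, 1, 0, 1, 1, 1, 0, 1, 1, 1, 1] [1, 1, 1, 0, 1, 0, 1, 0, 1, 1, 0, 1, 1, 1, 1]
      (eq_emb inj013 (by decide +kernel) (by intro i j; fin_cases i <;> fin_cases j <;> decide +kernel)) (eq_emb inj013 (by decide +kernel) (by intro i j; fin_cases i <;> fin_cases j <;> decide +kernel))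
  intro y
  have h := SUShort.sub_le_of_triples (uctx fld4) (a := (0 : Fin 4)) (b := 1) (by decide)
    Finset.univ (Finset.mem_univ _) (Finset.mem_univ _) (by decide) toSU.range fun i _ hia hib g hg => by
      rcases (show ∀ k : Fin 4, k = 0 ∨ k = 1 ∨ k = 2 ∨ k = 3 by decide) i with rfl | rfl | rfl | rfl
      · exact absurd rfl hia
      · exact absurd rfl hib
      · exact t2 (mem_emb_of_sub fld4 inj012 (by decide) hg)
      · exact t3 (mem_emb_of_sub fld4 inj013 (by decide) hg)
  exact h (SUShort.sub_univ (q := 2) (F := F4) ▸ Subgroup.mem_top y)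

theorem pres_F4 : SLShort.Pres (SUn 4 F4 2) 2 5 := by
  obtain ⟨hfin, hle⟩ := card_le
  refine SLShort.pres_of_presented rels card_rels ⟨MulEquiv.ofBijective toSU ?_⟩
  have hge : Nat.card (SUn 4 F4 2) ≤ Nat.card G2 := Nat.card_le_card_of_surjective _ surj
  exact surj.bijective_of_nat_card_le (hle.trans card_su.ge)

universe u

/-- `SU(4, 2)` has a presentation on two generators with five relations. -/
theorem su_four_two {F : Type u} [Field F] [Fintype F] (hF : Fintype.card F = 4) :
    SLShort.Pres (SUn 4 F 2) 2 5 := by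
  obtain ⟨τ⟩ : Nonempty (F4 ≃+* F) := ⟨FiniteField.ringEquivOfCardEq (card_eq.trans hF.symm)⟩
  let f : SUn 4 F4 2 →* SUn 4 F 2 :=
    ((Matrix.SpecialLinearGroup.map τ.toRingHom).comp (Subgroup.subtype _)).codRestrict _
      fun g => Classical.U32.map_mem_SU τ g.1 g.2
  have hf : Surjective f := fun y =>
    ⟨⟨Matrix.SpecialLinearGroup.map τ.symm.toRingHom y.1, Classical.U32.map_mem_SU τ.symm y.1 y.2⟩,
      Subtype.ext (Matrix.SpecialLinearGroup.ext _ _ fun i j => by simp [f])⟩
  have hinj : Injective f := fun x y h => Subtype.ext (Subtype.ext (Matrix.map_injective τ.injective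
    (congrArg (fun g : SUn 4 F 2 => g.1.1) h)))
  obtain ⟨g, hg, R, hR, hker⟩ := pres_F4
  refine ⟨f.comp g, hf.comp hg, R, hR, ?_⟩
  rw [← hker]
  ext x
  simp only [MonoidHom.mem_ker, MonoidHom.comp_apply]
  exact ⟨fun h => hinj (h.trans (map_one f).symm), fun h => by rw [h, map_one]⟩

end Cfsg.Agent.SUSix.U42
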