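import Cfsg.Agent.SUSix.Pres
import Cfsg.Agent.SUSix.ThreeExtra
import Cfsg.Agent.SUSix.BigTwo
import Cfsg.Agent.SUSix.U42

/-!
# Presentations of `SU(n, q)` and `PSU(n, q)` on six generators, for `n` at least four
-/

set_option autoImplicit false

namespace Cfsg.Agent.SUSix

open Cfsg.Agent.Phan Cfsg.Agent.SLShort

universe u

variable {F : Type u} [Field F] [Fintype F] {q : ℕ}

theorem one_lt_of_card (hF : Fintype.card F = q ^ 2) : 1 < q := by
  have h := Fintype.one_lt_card (α := F)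
  rw [hF] at h
  by_contra hq
  have : q ^ 2 ≤ 1 := pow_le_one₀ (Nat.zero_le _) (by omega)
  omega

/-- `SU(n, 2)`. -/
theorem su_two_six (hF : Fintype.card F = 2 ^ 2) {n : ℕ} (hn : 4 ≤ n) : Pres (SUn n F 2) 6 32 := by
  have h4 : Pres (SUn 4 F 2) 2 5 := U42.su_four_two (hF.trans (by norm_num))
  rcases eq_or_lt_of_le hn with rfl | h
  · exact h4.pad.pad.pad.pad.mono (by norm_num)
  · obtain ⟨σ, hu⟩ := AutPSU.exists_uctx hF
    exact big_pres hu h h4

/-- `SU(n, q)` on six generators. -/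
theorem su_six (hF : Fintype.card F = q ^ 2) {n : ℕ} (hn : 4 ≤ n) :
    Pres (SUn n F q) 6 37 ∧ (n ≤ 5 → Pres (SUn n F q) 6 34) := by
  have hq1 := one_lt_of_card hF
  rcases Nat.lt_or_ge q 3 with hq | hq
  · obtain rfl : q = 2 := by omega
    exact ⟨(su_two_six hF hn).mono (by norm_num), fun _ => (su_two_six hF hn).mono (by norm_num)⟩
  haveI : Fact (2 < q) := ⟨hq⟩
  obtain ⟨σ, hS⟩ := exists_fld_two hq1 hF
  have h3 : Pres (SUn 3 F q) 3 22 := SUThreePres.su_three_pres hF hq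
  obtain ⟨e, he, hX⟩ : ∃ e : ℕ, e ≤ 4 ∧ ∀ N, Extra hS N e := by
    rcases eq_or_lt_of_le hq with h | h
    · exact ⟨4, le_rfl, extra_three hS h.symm⟩
    · exact ⟨0, by norm_num, extra_of_lt hS h⟩
  have small : n ≤ 5 → Pres (SUn n F q) 6 34 := fun h5 =>
    (small_pres hS (by omega) h3 (hX n)).mono (by omega)
  refine ⟨?_, small⟩
  rcases Nat.lt_or_ge n 6 with h | h
  · exact (small (by omega)).mono (by norm_num)
  · exact (large_pres hS h h3 (hX n)).mono (by omega)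

theorem main (hF : Fintype.card F = q ^ 2) (n : ℕ) (hn : 4 ≤ n) :
    Pres (SUn n F q) 6 39 ∧ Pres (Cfsg.PSU n F q) 6 40 ∧ Pres (SUn 4 F q) 6 35 ∧
      Pres (SUn 5 F q) 6 35 ∧ Pres (Cfsg.PSU 4 F q) 6 36 := by
  have h := (su_six hF hn).1
  have h4 := (su_six (n := 4) hF le_rfl).2 (by norm_num)
  have h5 := (su_six (n := 5) hF (by norm_num)).2 le_rfl
  exact ⟨h.mono (by norm_num), (psu_pres (by omega) hF h).mono (by norm_num), h4.mono (by norm_num),
    h5.mono (by norm_num), (psu_pres (by norm_num) hF h4).mono (by norm_num)⟩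

end Cfsg.Agent.SUSix
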