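import Cfsg.Agent.SUSix.Glue

/-!
# The Phan amalgam inside a glued group
-/

set_option autoImplicit false

namespace Cfsg.Agent.SUSix

open Matrix Function Equiv Equiv.Perm Cfsg.Agent.Phan Cfsg.Agent.AltMult Cfsg.Agent.SLShort

universe u v

variable {N : ℕ} {H : Type} [Group H] {π : H →* alternatingGroup (Fin N)} {hn : 4 ≤ N}
variable {F : Type u} [Field F] [Fintype F] {σ : F →+* F} {q : ℕ} {hS : Fld σ q}
variable {Q : Type v} [Group Q] {φ : H →* Q} {ψ : SUn 3 F q →* Q}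

variable (hn hS) in
/-- `SU(3, q)` in the first three coordinates. -/
noncomputable def E3 : SUn 3 F q →* SUn N F q :=
  emb hS (pt3 (show 3 ≤ N by omega)) (pt3 (show 3 ≤ N by omega)).injective

theorem E3_e2 {a b : Fin 3} (hab : a ≠ b) (s : SUn 2 F q) :
    E3 hn hS (e2 hS hab s) = e2 hS ((pt3 (show 3 ≤ N by omega)).injective.ne hab) s :=
  emb_e2 hS _ _ hab s

variable (π hn hS φ ψ)

/-- The member of the amalgam on the coordinates `i`, `i + 1`. -/
noncomputable def mem (i : ℕ) : Subgroup Q :=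
  if h : i + 1 < N then (blkHom π hn hS φ ψ ⟨i, by omega⟩ ⟨i + 1, h⟩).range else ⊥

variable {π hn hS φ ψ} {h0 : H} {g : SUn 2 F q} {D : Finset (H × Bool × Bool)} {Dsd : Finset Bool}
variable (hH : GlueHyp.{u, v} π hn hS h0 g D Dsd) (R : GlueRel π hn hS φ ψ h0 g D Dsd)
variable {P : Q →* SUn N F q} (hφ : P.comp φ = (pm).comp π) (hψ : P.comp ψ = E3 hn hS)
include hH hφ hψ

theorem map_blk {i j : Fin N} (hij : i ≠ j) (s : SUn 2 F q) :
    P (blkHom π hn hS φ ψ i j s) = e2 hS hij s := by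
  have hz : z hn 0 ≠ z hn 1 := (z_injective hn).ne (by decide)
  have e : ∀ t, P (first hS ψ t) = e2 hS hz t := fun t => by
    show P.comp ψ _ = _
    rw [hψ, E3_e2]
    rfl
  rw [blkHom_apply, map_mul, map_mul, map_inv, e, show P (φ (seat π hn i j)) = pm (π (seat π hn i j)) from
    DFunLike.congr_fun hφ _, pm_e2]
  rcases seat_spec π hn hH.surj hij with ⟨a, b⟩ | ⟨a, b⟩
  · rw [if_pos a, MonoidHom.id_apply]
    exact e2_congr hS _ _ a b s
  · rw [if_neg (by rw [a]; exact hij.symm), e2_flip]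
    exact e2_congr hS _ _ b a s

include R

/-- The gluing gives a Phan amalgam. -/
theorem amal : Amal σ P (mem π hn hS φ ψ) := by
  refine ⟨hS, fun i hi => ?_, fun i hi => ?_, fun i hi => ?_, fun i j hij hj x hx y hy => ?_⟩
  · have hne : (⟨i, by omega⟩ : Fin N) ≠ ⟨i + 1, hi⟩ := by simp
    rw [mem, dif_pos hi, ← MonoidHom.range_comp]
    conv_rhs => rw [show i = ((⟨i, by omega⟩ : Fin N) : ℕ) from rfl,
      blk_eq hS (i := ⟨i, by omega⟩) (j := ⟨i + 1, hi⟩) rfl hne]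
    exact congrArg MonoidHom.range (MonoidHom.ext fun s => map_blk hH hφ hψ hne s)
  · rintro x hx h1
    have hne : (⟨i, by omega⟩ : Fin N) ≠ ⟨i + 1, hi⟩ := by simp
    rw [mem, dif_pos hi] at hx
    obtain ⟨s, rfl⟩ := hx
    rw [map_blk hH hφ hψ hne] at h1
    rw [e2_injective hS hne (h1.trans (map_one _).symm), map_one]
  · have ne1 : (⟨i, by omega⟩ : Fin N) ≠ ⟨i + 1, by omega⟩ := by simp
    have ne2 : (⟨i, by omega⟩ : Fin N) ≠ ⟨i + 2, by omega⟩ := by simp
    have ne3 : (⟨i + 1, by omega⟩ : Fin N) ≠ ⟨i + 2, by omega⟩ := by simp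
    obtain ⟨h, a, b, c, -, -, -, hab, hbc, -⟩ := triple hH R ne1 ne2 ne3
    intro x hx h1
    have hle : mem π hn hS φ ψ i ⊔ mem π hn hS φ ψ (i + 1) ≤
        ((MulAut.conj (φ h)).toMonoidHom.comp ψ).range := by
      refine sup_le ?_ ?_
      · rw [mem, dif_pos (by omega)]; rintro _ ⟨s, rfl⟩; exact ⟨_, (hab s).symm⟩
      · rw [mem, dif_pos (by omega)]; rintro _ ⟨s, rfl⟩; exact ⟨_, (hbc s).symm⟩
    obtain ⟨t, rfl⟩ := hle hx
    simp only [MonoidHom.comp_apply, MulEquiv.coe_toMonoidHom, MulAut.conj_apply] at h1 ⊢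
    rw [map_mul, map_mul, map_inv, conj_eq_one_iff, show P (ψ t) = E3 hn hS t from
      DFunLike.congr_fun hψ t] at h1
    rw [emb_injective hS _ _ (h1.trans (map_one _).symm), map_one, mul_one, mul_inv_cancel]
  · rw [mem, dif_pos (by omega)] at hx
    rw [mem, dif_pos hj] at hy
    obtain ⟨s, rfl⟩ := hx
    obtain ⟨t, rfl⟩ := hy
    refine (disjoint hH R ?_ ?_ ?_ ?_ ?_ ?_ s t).eq <;> exact Fin.ne_of_val_ne (by dsimp only; omega)

theorem gen_three [Fact (2 < q)] : (e2 hS (show (0 : Fin 3) ≠ 1 by decide)).range ⊔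
    (e2 hS (show (1 : Fin 3) ≠ 2 by decide)).range = (⊤ : Subgroup (SUn 3 F q)) := by
  rw [eq_top_iff]
  intro x _
  have hx : x ∈ (gen 0 : Subgroup (SUn 3 F q)) := by
    rw [gen_eq_lowFix hS]
    exact fun l hl => absurd hl (Nat.not_lt_zero _)
  refine (iSup₂_le fun i hi => ?_ : (gen 0 : Subgroup (SUn 3 F q)) ≤ _) hx
  rcases (show i = 0 ∨ i = 1 by omega) with rfl | rfl
  · exact le_sup_of_le_left (blk_eq hS (i := (0 : Fin 3)) (j := 1) rfl (by decide)).le
  · exact le_sup_of_le_right (blk_eq hS (i := (1 : Fin 3)) (j := 2) rfl (by decide)).le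

theorem blk_le [Fact (2 < q)] : ∀ {i j : Fin N}, i ≠ j →
    (blkHom π hn hS φ ψ i j).range ≤ lvl N (mem π hn hS φ ψ) 0 := by
  suffices ∀ d : ℕ, ∀ i j : Fin N, (j : ℕ) = i + d + 1 →
      (blkHom π hn hS φ ψ i j).range ≤ lvl N (mem π hn hS φ ψ) 0 by
    intro i j hij
    rcases lt_or_gt_of_ne (Fin.val_ne_of_ne hij) with h | h
    · exact this (j - i - 1) i j (by omega)
    · refine le_trans ?_ (this (i - j - 1) j i (by omega))
      rintro _ ⟨s, rfl⟩
      exact ⟨flip hS s, (blk_symm hH R hij.symm s).symm⟩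
  intro d
  induction d with
  | zero =>
    intro i j hj
    refine le_trans ?_ (le_lvl (N := N) (A := mem π hn hS φ ψ) (Nat.zero_le i.1) (by omega))
    rw [mem, dif_pos (by omega : (i : ℕ) + 1 < N)]
    have e : j = (⟨(i : ℕ) + 1, by have := i.isLt; have := j.isLt; omega⟩ : Fin N) := Fin.ext hj
    exact le_of_eq (congrArg (fun x => (blkHom π hn hS φ ψ i x).range) e)
  | succ d ih =>
    intro i j hj
    let m : Fin N := ⟨i + 1, by omega⟩
    have him : i ≠ m := Fin.ne_of_val_ne (by simp [m])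
    have hij : i ≠ j := Fin.ne_of_val_ne (by omega)
    have hmj : m ≠ j := Fin.ne_of_val_ne (by simp [m]; omega)
    obtain ⟨h, a, b, c, hab', hbc', hac', hab, hbc, hac⟩ := triple hH R him hij hmj
    have h1 : (blkHom π hn hS φ ψ i m).range ≤ lvl N (mem π hn hS φ ψ) 0 := by
      refine le_trans ?_ (le_lvl (N := N) (A := mem π hn hS φ ψ) (Nat.zero_le i.1) (by omega))
      rw [mem, dif_pos (by omega : (i : ℕ) + 1 < N)]
    have h2 : (blkHom π hn hS φ ψ m j).range ≤ lvl N (mem π hn hS φ ψ) 0 := ih m j (by simp [m]; omega)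
    rintro _ ⟨s, rfl⟩
    rw [hac]
    -- the block on three coordinates lies in the level
    let c3 : Fin 3 → Fin 3 := ![a, b, c]
    have hc3 : Injective c3 := by
      intro x y hxy
      fin_cases x <;> fin_cases y <;> simp_all [c3]
    have hsur : ((MulAut.conj (φ h)).toMonoidHom.comp ψ).range ≤ lvl N (mem π hn hS φ ψ) 0 := by
      let η : SUn 3 F q →* Q := ((MulAut.conj (φ h)).toMonoidHom.comp ψ).comp (emb hS c3 hc3)
      have hη : η.range ≤ lvl N (mem π hn hS φ ψ) 0 := by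
        rw [MonoidHom.range_eq_map, ← gen_three hH R hφ hψ, Subgroup.map_sup]
        refine sup_le ?_ ?_
        · rintro _ ⟨_, ⟨t, rfl⟩, rfl⟩
          refine h1 ⟨t, (hab t).trans ?_⟩
          show _ = ((MulAut.conj (φ h)).toMonoidHom.comp ψ) (emb hS c3 hc3 _)
          rw [emb_e2, e2'_eq hS hab']
          rfl
        · rintro _ ⟨_, ⟨t, rfl⟩, rfl⟩
          refine h2 ⟨t, (hbc t).trans ?_⟩
          show _ = ((MulAut.conj (φ h)).toMonoidHom.comp ψ) (emb hS c3 hc3 _)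
          rw [emb_e2, e2'_eq hS hbc']
          rfl
      refine le_trans ?_ hη
      rintro _ ⟨x, rfl⟩
      obtain ⟨y, rfl⟩ : ∃ y, emb hS c3 hc3 y = x :=
        Finite.surjective_of_injective (emb_injective hS c3 hc3) x
      exact ⟨y, rfl⟩
    exact hsur ⟨_, rfl⟩

theorem range_le [Fact (2 < q)] : φ.range ⊔ ψ.range ≤ lvl N (mem π hn hS φ ψ) 0 := by
  set L := lvl N (mem π hn hS φ ψ) 0
  have hψL : ψ.range ≤ L := by
    rw [MonoidHom.range_eq_map, ← gen_three hH R hφ hψ, Subgroup.map_sup]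
    refine sup_le ?_ ?_ <;>
    · rintro _ ⟨_, ⟨t, rfl⟩, rfl⟩
      rw [← block hH R]
      exact blk_le hH R hφ hψ ((pt3 (show 3 ≤ N by omega)).injective.ne (by decide)) ⟨t, rfl⟩
  refine sup_le ?_ hψL
  have hconj : ∀ h, L ≤ L.comap (MulAut.conj (φ h)).toMonoidHom := fun h => iSup₂_le fun i hi => by
    rw [mem, dif_pos hi.2]
    rintro _ ⟨s, rfl⟩
    show φ h * _ * (φ h)⁻¹ ∈ L
    have hne : (⟨i, by omega⟩ : Fin N) ≠ ⟨i + 1, hi.2⟩ := by simp
    rw [equi hH R h hne]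
    exact blk_le hH R hφ hψ ((π h).1.injective.ne hne) ⟨s, rfl⟩
  let K : Subgroup H := L.comap φ
  have hKn : K.Normal := ⟨fun k hk h => by
    show φ (h * k * h⁻¹) ∈ L
    rw [map_mul, map_mul, map_inv]
    exact hconj h hk⟩
  have hK0 : h0 ∈ K := by
    show φ h0 ∈ L
    rw [R.cyc]
    exact hψL ⟨_, rfl⟩
  have hKtop : K = ⊤ := top_le_iff.mp (hH.normal ▸ Subgroup.normalClosure_le_normal (by simpa using hK0))
  rintro _ ⟨h, rfl⟩
  exact (hKtop ▸ Subgroup.mem_top h : h ∈ K)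

/-- The map onto `SU(N, q)` is injective on the glued group. -/
theorem injective_of_glue [Fact (2 < q)] (h4 : 3 < q ∨ Free4 P (mem π hn hS φ ψ)) :
    ∀ x ∈ φ.range ⊔ ψ.range, P x = 1 → x = 1 := fun x hx h1 => by
  rcases h4 with hq | h4
  · exact (amal hH R hφ hψ).kerFree hq 0 x (range_le hH R hφ hψ hx) h1
  · exact (amal hH R hφ hψ).kerFree_four h4 0 x (range_le hH R hφ hψ hx) h1

/-- The glued group maps onto `SU(N, q)`. -/
theorem surjective_of_glue [Fact (2 < q)] : Surjective P := by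
  intro y
  have hy : y ∈ (gen 0 : Subgroup (SUn N F q)) := by
    rw [gen_eq_lowFix hS]
    exact fun l hl => absurd hl (Nat.not_lt_zero _)
  refine MonoidHom.mem_range.1 ((iSup₂_le fun i hi => ?_ : (gen 0 : Subgroup (SUn N F q)) ≤ P.range) hy)
  rw [← (amal hH R hφ hψ).map i hi.2]
  exact Subgroup.map_le_range _ _

end Cfsg.Agent.SUSix
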