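import Cfsg.Agent.SUSix.Amalgam
import Cfsg.Agent.SLShort.Pres

/-!
# Presentations from the gluing
-/

set_option autoImplicit false

namespace Cfsg.Agent.SUSix

open Matrix Function Equiv Equiv.Perm Cfsg.Agent.Phan Cfsg.Agent.AltMult Cfsg.Agent.SLShort
open scoped commutatorElement

universe u

variable {N : ℕ} {H : Type} [Group H] (π : H →* alternatingGroup (Fin N)) (hn : 4 ≤ N)
variable {F : Type u} [Field F] [Fintype F] {σ : F →+* F} {q : ℕ} (hS : Fld σ q)

/-- The map of the free product. -/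
noncomputable def glueMap : Monoid.Coprod H (SUn 3 F q) →* SUn N F q :=
  Monoid.Coprod.lift ((pm).comp π) (E3 hn hS)

theorem glueMap_inl : (glueMap π hn hS).comp Monoid.Coprod.inl = (pm).comp π :=
  Monoid.Coprod.lift_comp_inl _ _

theorem glueMap_inr : (glueMap π hn hS).comp Monoid.Coprod.inr = E3 hn hS :=
  Monoid.Coprod.lift_comp_inr _ _

/-- The extra relations make four consecutive blocks faithful. -/
def FourFree (h0 : H) (g : SUn 2 F q) (D : Finset (H × Bool × Bool)) (Dsd : Finset Bool)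
    (X : Finset (Monoid.Coprod H (SUn 3 F q))) : Prop :=
  ∀ (Q : Type u) [Group Q] (f : Monoid.Coprod H (SUn 3 F q) →* Q) (P : Q →* SUn N F q),
    P.comp f = glueMap π hn hS → (∀ x ∈ X, f x = 1) →
    GlueRel π hn hS (f.comp Monoid.Coprod.inl) (f.comp Monoid.Coprod.inr) h0 g D Dsd →
    3 < q ∨ Free4 P (mem π hn hS (f.comp Monoid.Coprod.inl) (f.comp Monoid.Coprod.inr))

variable {h0 : H} {g : SUn 2 F q} {D : Finset (H × Bool × Bool)} {Dsd : Finset Bool}

theorem su_glue [Fact (2 < q)] (hH : GlueHyp.{u, u} π hn hS h0 g D Dsd)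
    (X : Finset (Monoid.Coprod H (SUn 3 F q))) (hX : ∀ x ∈ X, glueMap π hn hS x = 1)
    (hfour : FourFree π hn hS h0 g D Dsd X) :
    Surjective (glueMap π hn hS) ∧ ∃ S : Finset (Monoid.Coprod H (SUn 3 F q)),
      S.card ≤ D.card + Dsd.card + X.card ∧
      (glueMap π hn hS).ker = Subgroup.normalClosure
        (insert (Monoid.Coprod.inl h0 * (Monoid.Coprod.inr (pm c3))⁻¹) (S : Set _)) := by
  classical
  let C := Monoid.Coprod H (SUn 3 F q)
  let ι : H →* C := Monoid.Coprod.inl
  let κ : SUn 3 F q →* C := Monoid.Coprod.inr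
  let Φ := glueMap π hn hS
  have hι : ∀ h, Φ (ι h) = pm (π h) := DFunLike.congr_fun (glueMap_inl π hn hS)
  have hκ : ∀ s, Φ (κ s) = E3 hn hS s := DFunLike.congr_fun (glueMap_inr π hn hS)
  have hz : ∀ {i j : Fin 4}, i ≠ j → z hn i ≠ z hn j := fun h => (z_injective hn).ne h
  let rstab : H × Bool × Bool → C := fun d =>
    ι d.1 * first hS κ (sel hS g d.2.2) * (ι d.1)⁻¹ * (first hS κ (sel hS g (xor d.2.1 d.2.2)))⁻¹
  let rsd : Bool → C := fun b =>
    ⁅blkHom π hn hS ι κ (z hn 0) (z hn 1) g, blkHom π hn hS ι κ (z hn 2) (z hn 3) (sel hS g b)⁆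
  let S : Finset C := D.image rstab ∪ Dsd.image rsd ∪ X
  have e3 : ∀ t, Φ (first hS κ t) = e2 hS (hz (show (0 : Fin 4) ≠ 1 by decide)) t := fun t => by
    show Φ (κ _) = _
    rw [hκ, E3_e2]
    rfl
  have hblk : ∀ {i j : Fin N} (hij : i ≠ j) (s : SUn 2 F q), Φ (blkHom π hn hS ι κ i j s) = e2 hS hij s :=
    fun {i j} hij s => map_blk hH (glueMap_inl π hn hS) (glueMap_inr π hn hS) hij s
  have hS1 : ∀ x ∈ insert (ι h0 * (κ (pm c3))⁻¹) (S : Set C), Φ x = 1 := by
    intro x hx
    rcases Set.mem_insert_iff.mp hx with rfl | hx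
    · rw [map_mul, map_inv, hι, hκ, mul_inv_eq_one, hH.cyc0, E3]
      refine (emb_pm hS _ _ c3 _ (fun a => ?_) fun l hl => ?_).symm
      · fin_cases a
        · exact cyc_apply_left (hz (by decide)) (hz (by decide))
        · exact cyc_apply_mid
        · exact cyc_apply_right (hz (by decide)) (hz (by decide))
      · exact cyc_apply_of_ne (fun e => hl ⟨0, e.symm⟩) (fun e => hl ⟨1, e.symm⟩) fun e => hl ⟨2, e.symm⟩
    rcases Finset.mem_union.mp (Finset.mem_coe.mp hx) with hx | hx
    · rcases Finset.mem_union.mp hx with hx | hx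
      · obtain ⟨⟨h, b, c⟩, hd, rfl⟩ := Finset.mem_image.mp hx
        obtain ⟨m0, m1⟩ := hH.data.1 _ hd
        simp only [rstab]
        rw [map_mul, map_mul, map_mul, map_inv, map_inv, hι, e3, e3, pm_e2, mul_inv_eq_one]
        cases b
        · rw [Bool.false_xor]
          exact e2_congr hS _ _ m0 m1 _
        · rw [Bool.true_xor, sel_not, e2_flip]
          exact e2_congr hS _ _ m0 m1 _
      · obtain ⟨b, -, rfl⟩ := Finset.mem_image.mp hx
        show Φ ⁅_, _⁆ = 1
        rw [map_commutatorElement, hblk (hz (by decide)), hblk (hz (by decide)),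
          commutatorElement_eq_one_iff_commute]
        exact e2_disjoint hS _ _ (hz (by decide)) (hz (by decide)) (hz (by decide)) (hz (by decide)) _ _
    · exact hX x hx
  set M := Subgroup.normalClosure (insert (ι h0 * (κ (pm c3))⁻¹) (S : Set C))
  have hMle : M ≤ Φ.ker := Subgroup.normalClosure_le_normal fun x hx => hS1 x hx
  let f : C →* C ⧸ M := QuotientGroup.mk' M
  let P : C ⧸ M →* SUn N F q := QuotientGroup.lift M Φ hMle
  have hPf : P.comp f = Φ := MonoidHom.ext fun x => rfl
  have hrel : ∀ y ∈ insert (ι h0 * (κ (pm c3))⁻¹) (S : Set C), f y = 1 := fun y hy =>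
    (QuotientGroup.eq_one_iff _).mpr (Subgroup.subset_normalClosure hy)
  have R : GlueRel π hn hS (f.comp ι) (f.comp κ) h0 g D Dsd := by
    refine ⟨?_, fun d hd => ?_, fun b hb => ?_⟩
    · have := hrel _ (Set.mem_insert _ _)
      rwa [map_mul, map_inv, mul_inv_eq_one] at this
    · have h1 := hrel (rstab d) (Set.mem_insert_of_mem _ (Finset.mem_coe.mpr
        (Finset.mem_union_left _ (Finset.mem_union_left _ (Finset.mem_image_of_mem _ hd)))))
      simp only [rstab] at h1
      rwa [map_mul, map_mul, map_mul, map_inv, map_inv, mul_inv_eq_one] at h1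
    · have h1 := hrel (rsd b) (Set.mem_insert_of_mem _ (Finset.mem_coe.mpr
        (Finset.mem_union_left _ (Finset.mem_union_right _ (Finset.mem_image_of_mem _ hb)))))
      change f ⁅_, _⁆ = 1 at h1
      rwa [map_commutatorElement, blkHom_comp, blkHom_comp, commutatorElement_eq_one_iff_commute] at h1
  have hφ : P.comp (f.comp ι) = (pm).comp π := by rw [← MonoidHom.comp_assoc, hPf]; exact glueMap_inl π hn hS
  have hψ : P.comp (f.comp κ) = E3 hn hS := by rw [← MonoidHom.comp_assoc, hPf]; exact glueMap_inr π hn hS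
  have h4 := hfour (C ⧸ M) f P hPf (fun x hx => hrel x (Set.mem_insert_of_mem _
    (Finset.mem_coe.mpr (Finset.mem_union_right _ hx)))) R
  refine ⟨fun y => ?_, S, ?_, ?_⟩
  · obtain ⟨x, rfl⟩ := surjective_of_glue hH R hφ hψ y
    obtain ⟨c, rfl⟩ := QuotientGroup.mk'_surjective M x
    exact ⟨c, rfl⟩
  · exact (Finset.card_union_le _ _).trans (Nat.add_le_add_right ((Finset.card_union_le _ _).trans
      (Nat.add_le_add Finset.card_image_le Finset.card_image_le)) _)
  · refine le_antisymm (fun c hc => ?_) hMle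
    have hmem : f c ∈ (f.comp ι).range ⊔ (f.comp κ).range := by
      clear hc
      induction c using Monoid.Coprod.induction_on with
      | inl a => exact Subgroup.mem_sup_left ⟨a, rfl⟩
      | inr b => exact Subgroup.mem_sup_right ⟨b, rfl⟩
      | mul a b ha hb => rw [map_mul]; exact mul_mem ha hb
    exact (QuotientGroup.eq_one_iff c).mp (injective_of_glue hH R hφ hψ h4 _ hmem hc)

end Cfsg.Agent.SUSix
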