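import Cfsg.Agent.SUSix.OneGen
import Cfsg.Agent.SLShort.Glue
import Cfsg.Agent.Phan.Four

/-!
# Gluing a group over `Alt(N)` and a copy of `SU(3, q)`

In a group with the relations the conjugates of the block on two coordinates form a Phan amalgam, so the map onto
`SU(N, q)` is injective.
-/

set_option autoImplicit false

namespace Cfsg.Agent.SUSix

open Matrix Function Equiv Equiv.Perm Cfsg.Agent.Phan Cfsg.Agent.AltMult Cfsg.Agent.SLShort
open Cfsg.Agent.ShortPres (exists_alt_map)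

universe u v

variable {N : ℕ} {H : Type} [Group H] (π : H →* alternatingGroup (Fin N)) (hn : 4 ≤ N)
variable {F : Type u} [Field F] [Fintype F] {σ : F →+* F} {q : ℕ}

open _root_.Classical in
/-- An element moving the first two points onto a pair. -/
noncomputable def seat (i j : Fin N) : H :=
  if h : ∃ h : H, ((π h).1 (z hn 0) = i ∧ (π h).1 (z hn 1) = j) ∨
      ((π h).1 (z hn 0) = j ∧ (π h).1 (z hn 1) = i) then h.choose else 1

include hn in
theorem exists_pair (hπ : Surjective π) (i j : Fin N) (hij : i ≠ j) :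
    ∃ h : H, ((π h).1 (z hn 0) = i ∧ (π h).1 (z hn 1) = j) ∨
      ((π h).1 (z hn 0) = j ∧ (π h).1 (z hn 1) = i) := by
  have h01 : z hn 0 ≠ z hn 1 := (z_injective hn).ne (by decide)
  obtain ⟨g, h | h⟩ := exists_alt_map (m := 0) ![z hn 0, z hn 1] ![i, j]
    (by intro a b; fin_cases a <;> fin_cases b <;> simp [h01, h01.symm])
    (by intro a b; fin_cases a <;> fin_cases b <;> simp [hij, hij.symm])
  · obtain ⟨h', rfl⟩ := hπ g
    exact ⟨h', Or.inl ⟨h 0, h 1⟩⟩
  · obtain ⟨h', rfl⟩ := hπ g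
    exact ⟨h', Or.inr ⟨h 1, h 0⟩⟩

theorem seat_spec (hπ : Surjective π) {i j : Fin N} (hij : i ≠ j) :
    ((π (seat π hn i j)).1 (z hn 0) = i ∧ (π (seat π hn i j)).1 (z hn 1) = j) ∨
      ((π (seat π hn i j)).1 (z hn 0) = j ∧ (π (seat π hn i j)).1 (z hn 1) = i) := by
  have h := exists_pair π hn hπ i j hij
  rw [seat, dif_pos h]
  exact h.choose_spec

variable (hS : Fld σ q) {Q : Type v} [Group Q] (φ : H →* Q) (ψ : SUn 3 F q →* Q)

/-- The first two coordinates of three. -/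
noncomputable def first : SUn 2 F q →* Q := ψ.comp (e2 hS (show (0 : Fin 3) ≠ 1 by decide))

open _root_.Classical in
/-- The block on a pair of coordinates. -/
noncomputable def blkHom (i j : Fin N) : SUn 2 F q →* Q :=
  (MulAut.conj (φ (seat π hn i j))).toMonoidHom.comp
    ((first hS ψ).comp (if (π (seat π hn i j)).1 (z hn 0) = i then MonoidHom.id _ else flip hS))

theorem blkHom_apply (i j : Fin N) (s : SUn 2 F q) :
    blkHom π hn hS φ ψ i j s = φ (seat π hn i j) *
      first hS ψ ((if (π (seat π hn i j)).1 (z hn 0) = i then MonoidHom.id _ else flip hS) s) *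
        (φ (seat π hn i j))⁻¹ := rfl

theorem blkHom_comp {Q' : Type*} [Group Q'] (f : Q →* Q') (i j : Fin N) (s : SUn 2 F q) :
    f (blkHom π hn hS φ ψ i j s) = blkHom π hn hS (f.comp φ) (f.comp ψ) i j s := by
  simp only [blkHom_apply, map_mul, map_inv]
  rfl

/-- The generator or its flip. -/
noncomputable def sel (g : SUn 2 F q) (b : Bool) : SUn 2 F q := if b then flip hS g else g

theorem sel_not (g : SUn 2 F q) (b : Bool) : sel hS g (!b) = flip hS (sel hS g b) := by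
  cases b <;> simp [sel, flip_flip]

/-- The relations. -/
structure GlueRel (h0 : H) (g : SUn 2 F q) (D : Finset (H × Bool × Bool)) (Dsd : Finset Bool) : Prop where
  cyc : φ h0 = ψ (pm c3)
  stab : ∀ d ∈ D, φ d.1 * first hS ψ (sel hS g d.2.2) * (φ d.1)⁻¹ = first hS ψ (sel hS g (xor d.2.1 d.2.2))
  disj : ∀ b ∈ Dsd, Commute (blkHom π hn hS φ ψ (z hn 0) (z hn 1) g)
    (blkHom π hn hS φ ψ (z hn 2) (z hn 3) (sel hS g b))

/-- The fixed hypotheses. -/
structure GlueHyp (h0 : H) (g : SUn 2 F q) (D : Finset (H × Bool × Bool)) (Dsd : Finset Bool) : Prop where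
  surj : Surjective π
  cyc0 : π h0 = cycA (z hn 0) (z hn 1) (z hn 2) ((z_injective hn).ne (by decide))
    ((z_injective hn).ne (by decide))
  normal : Subgroup.normalClosure ({h0} : Set H) = ⊤
  data : StabData.{v} π hn D
  sd : false ∈ Dsd ∧ (true ∈ Dsd ∨ 6 ≤ N)
  gen : Subgroup.closure ({g, flip hS g} : Set (SUn 2 F q)) = ⊤

section Facts

variable {π hn hS φ ψ} {h0 : H} {g : SUn 2 F q} {D : Finset (H × Bool × Bool)} {Dsd : Finset Bool}
variable (hH : GlueHyp.{u, v} π hn hS h0 g D Dsd) (R : GlueRel π hn hS φ ψ h0 g D Dsd)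
include hH R

omit R in
theorem hom_ext {f f' : SUn 2 F q →* Q} (h1 : f g = f' g) (h2 : f (flip hS g) = f' (flip hS g))
    (s : SUn 2 F q) : f s = f' s := by
  refine DFunLike.congr_fun (MonoidHom.eq_of_eqOn_dense hH.gen ?_) s
  rintro x (rfl | rfl)
  · exact h1
  · exact h2

theorem conj_first {h : H} {b : Bool} (hm : Moves π hn h b) (s : SUn 2 F q) :
    φ h * first hS ψ s * (φ h)⁻¹ = first hS ψ (if b then flip hS s else s) := by
  have hst : ∀ c, φ h * first hS ψ (sel hS g c) * (φ h)⁻¹ = first hS ψ (sel hS g (xor b c)) := fun c =>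
    hH.data.2 φ (fun c => first hS ψ (sel hS g c)) R.stab h b c hm
  have h1 := hst false
  have h2 := hst true
  cases b
  · exact hom_ext hH (f := (MulAut.conj (φ h)).toMonoidHom.comp (first hS ψ)) (f' := first hS ψ) h1 h2 s
  · refine hom_ext hH (f := (MulAut.conj (φ h)).toMonoidHom.comp (first hS ψ))
      (f' := (first hS ψ).comp (flip hS)) h1 ?_ s
    simp only [MonoidHom.comp_apply, flip_flip]
    exact h2

theorem well_defined (x : H) {i j : Fin N} (hij : i ≠ j) (s : SUn 2 F q) :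
    ((π x).1 (z hn 0) = i ∧ (π x).1 (z hn 1) = j → φ x * first hS ψ s * (φ x)⁻¹ = blkHom π hn hS φ ψ i j s) ∧
    ((π x).1 (z hn 0) = j ∧ (π x).1 (z hn 1) = i →
      φ x * first hS ψ (flip hS s) * (φ x)⁻¹ = blkHom π hn hS φ ψ i j s) := by
  rw [blkHom_apply]
  set h := (seat π hn i j)⁻¹ * x with hh
  have hg : φ x = φ (seat π hn i j) * φ h := by rw [← map_mul, hh, mul_inv_cancel_left]
  have key : ∀ t t', φ h * first hS ψ t * (φ h)⁻¹ = first hS ψ t' →
      φ x * first hS ψ t * (φ x)⁻¹ = φ (seat π hn i j) * first hS ψ t' * (φ (seat π hn i j))⁻¹ :=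
    fun t t' e => by rw [hg, ← e]; group
  have hval : ∀ a b, (π x).1 a = (π (seat π hn i j)).1 b → (π h).1 a = b := fun a b e => by
    rw [hh, map_mul, map_inv]
    show (π (seat π hn i j)).1⁻¹ ((π x).1 a) = b
    rw [e]; simp
  have hfix : (π h).1 (z hn 0) = z hn 0 → (π h).1 (z hn 1) = z hn 1 →
      ∀ t, φ h * first hS ψ t * (φ h)⁻¹ = first hS ψ t :=
    fun a b t => conj_first hH R (b := false) ⟨a, b⟩ t
  have hswap : (π h).1 (z hn 0) = z hn 1 → (π h).1 (z hn 1) = z hn 0 →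
      ∀ t, φ h * first hS ψ t * (φ h)⁻¹ = first hS ψ (flip hS t) :=
    fun a b t => conj_first hH R (b := true) ⟨a, b⟩ t
  rcases seat_spec π hn hH.surj hij with ⟨p0, p1⟩ | ⟨p0, p1⟩
  · rw [if_pos p0]
    exact ⟨fun ⟨a, b⟩ => key _ _ (hfix (hval _ _ (a.trans p0.symm)) (hval _ _ (b.trans p1.symm)) s),
      fun ⟨a, b⟩ => key _ _ ((hswap (hval _ _ (a.trans p1.symm)) (hval _ _ (b.trans p0.symm)) _).trans
        (by rw [flip_flip]; rfl))⟩
  · rw [if_neg (by rw [p0]; exact hij.symm)]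
    exact ⟨fun ⟨a, b⟩ => key _ _ (hswap (hval _ _ (a.trans p1.symm)) (hval _ _ (b.trans p0.symm)) s),
      fun ⟨a, b⟩ => key _ _ (hfix (hval _ _ (a.trans p0.symm)) (hval _ _ (b.trans p1.symm)) _)⟩

theorem blk_symm {i j : Fin N} (hij : i ≠ j) (s : SUn 2 F q) :
    blkHom π hn hS φ ψ j i s = blkHom π hn hS φ ψ i j (flip hS s) := by
  rcases seat_spec π hn hH.surj hij with h | h
  · rw [← ((well_defined hH R (seat π hn i j) hij.symm s).2 h),
      ← ((well_defined hH R (seat π hn i j) hij (flip hS s)).1 h)]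
  · rw [← ((well_defined hH R (seat π hn i j) hij.symm s).1 h),
      ← ((well_defined hH R (seat π hn i j) hij (flip hS s)).2 h), flip_flip]

theorem equi (h : H) {i j : Fin N} (hij : i ≠ j) (s : SUn 2 F q) :
    φ h * blkHom π hn hS φ ψ i j s * (φ h)⁻¹ = blkHom π hn hS φ ψ ((π h).1 i) ((π h).1 j) s := by
  have hne : (π h).1 i ≠ (π h).1 j := (π h).1.injective.ne hij
  rcases seat_spec π hn hH.surj hij with ⟨a, b⟩ | ⟨a, b⟩
  · rw [← ((well_defined hH R (seat π hn i j) hij s).1 ⟨a, b⟩),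
      ← ((well_defined hH R (h * seat π hn i j) hne s).1 ⟨by simp [a], by simp [b]⟩), map_mul]
    group
  · rw [← ((well_defined hH R (seat π hn i j) hij s).2 ⟨a, b⟩),
      ← ((well_defined hH R (h * seat π hn i j) hne s).2 ⟨by simp [a], by simp [b]⟩), map_mul]
    group

theorem block {a b : Fin 3} (hab : a ≠ b) (s : SUn 2 F q) :
    blkHom π hn hS φ ψ (pt3 (show 3 ≤ N by omega) a) (pt3 (show 3 ≤ N by omega) b) s = ψ (e2 hS hab s) := by
  set p3 : Fin 3 ↪ Fin N := pt3 (show 3 ≤ N by omega)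
  have h01 : z hn 0 ≠ z hn 1 := (z_injective hn).ne (by decide)
  have h02 : z hn 0 ≠ z hn 2 := (z_injective hn).ne (by decide)
  have h12 : z hn 1 ≠ z hn 2 := (z_injective hn).ne (by decide)
  have hcyc : ∀ m : ℕ, φ (h0 ^ m) = ψ (pm (c3 ^ m)) := fun m => by
    rw [map_pow, R.cyc, ← map_pow, ← map_pow]
  have hπm : ∀ (m : ℕ) (a : Fin 3), (π (h0 ^ m)).1 (p3 a) = p3 ((c3 ^ m).1 a) := by
    intro m
    induction m with
    | zero => intro a; simp
    | succ m ih =>
      intro a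
      rw [pow_succ, pow_succ, map_mul]
      show (π (h0 ^ m)).1 ((π h0).1 (p3 a)) = p3 ((c3 ^ m).1 (c3.1 a))
      rw [← ih, hH.cyc0]
      congr 1
      fin_cases a
      · exact cyc_apply_left h01 h12
      · exact cyc_apply_mid
      · exact cyc_apply_right h02 h12
  have base : ∀ (m : ℕ) s, blkHom π hn hS φ ψ (p3 ((c3 ^ m).1 0)) (p3 ((c3 ^ m).1 1)) s =
      ψ (e2 hS ((c3 ^ m).1.injective.ne (show (0 : Fin 3) ≠ 1 by decide)) s) := by
    intro m s
    rw [← ((well_defined hH R (h0 ^ m) (p3.injective.ne ((c3 ^ m).1.injective.ne (by decide))) s).1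
      ⟨hπm m 0, hπm m 1⟩), hcyc, ← pm_e2 hS (c3 ^ m) (show (0 : Fin 3) ≠ 1 by decide)]
    simp only [map_mul, map_inv]
    rfl
  have hm : ∀ a b : Fin 3, a ≠ b →
      (∃ m : Fin 3, (c3 ^ m.val).1 0 = a ∧ (c3 ^ m.val).1 1 = b) ∨
      ∃ m : Fin 3, (c3 ^ m.val).1 0 = b ∧ (c3 ^ m.val).1 1 = a := by
    decide
  rcases hm a b hab with ⟨m, rfl, rfl⟩ | ⟨m, rfl, rfl⟩
  · exact base m s
  · rw [blk_symm hH R (p3.injective.ne hab.symm), base, e2_flip]

theorem disjoint {i j k l : Fin N} (hij : i ≠ j) (hkl : k ≠ l) (hik : i ≠ k) (hil : i ≠ l) (hjk : j ≠ k)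
    (hjl : j ≠ l) (s t : SUn 2 F q) :
    Commute (blkHom π hn hS φ ψ i j s) (blkHom π hn hS φ ψ k l t) := by
  have hz : ∀ {i j : Fin 4}, i ≠ j → z hn i ≠ z hn j := fun h => (z_injective hn).ne h
  let z0 : Fin N := z hn 0
  let z1 : Fin N := z hn 1
  let z2 : Fin N := z hn 2
  let z3 : Fin N := z hn 3
  have h01 : z0 ≠ z1 := hz (by decide)
  have h02 : z0 ≠ z2 := hz (by decide)
  have h03 : z0 ≠ z3 := hz (by decide)
  have h12 : z1 ≠ z2 := hz (by decide)
  have h13 : z1 ≠ z3 := hz (by decide)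
  have h23 : z2 ≠ z3 := hz (by decide)
  set LP := blkHom π hn hS φ ψ
  have hmove : ∀ (h : H) i j k l s t, i ≠ j → k ≠ l → Commute (LP i j s) (LP k l t) →
      Commute (LP ((π h).1 i) ((π h).1 j) s) (LP ((π h).1 k) ((π h).1 l) t) := by
    intro h i j k l s t hij hkl hc
    have := hc.map (MulAut.conj (φ h)).toMonoidHom
    simp only [MulEquiv.coe_toMonoidHom, MulAut.conj_apply] at this
    rwa [equi hH R h hij, equi hH R h hkl] at this
  have hA : Commute (LP z0 z1 g) (LP z2 z3 g) := R.disj false hH.sd.1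
  have lift4 : ∀ σ : Perm (Fin N), sign σ = 1 → ∃ h : H, (π h).1 = σ := fun σ hσ => by
    obtain ⟨h, hh⟩ := hH.surj ⟨σ, mem_alternatingGroup.mpr hσ⟩
    exact ⟨h, by rw [hh]⟩
  have hB : Commute (LP z0 z1 g) (LP z2 z3 (flip hS g)) := by
    rcases hH.sd.2 with h | h6
    · exact R.disj true h
    · have h45 : (⟨4, by omega⟩ : Fin N) ≠ ⟨5, by omega⟩ := by simp
      obtain ⟨h, hh⟩ := lift4 (swap z2 z3 * swap ⟨4, by omega⟩ ⟨5, by omega⟩) (by
        rw [map_mul, sign_swap h23, sign_swap h45]; rfl)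
      have := hmove h z0 z1 z2 z3 g g h01 h23 hA
      simp only [hh, Perm.mul_apply] at this
      have e : ∀ i : Fin 4, swap (⟨4, by omega⟩ : Fin N) ⟨5, by omega⟩ (z hn i) = z hn i := fun i =>
        swap_apply_of_ne_of_ne (Fin.ne_of_val_ne (by
          show i.val ≠ 4; omega)) (Fin.ne_of_val_ne (by show i.val ≠ 5; omega))
      rw [e 0, e 1, e 2, e 3, swap_apply_of_ne_of_ne h02 h03, swap_apply_of_ne_of_ne h12 h13,
        swap_apply_left, swap_apply_right, blk_symm hH R h23] at this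
      exact this
  obtain ⟨τ, hτ⟩ := lift4 (swap z0 z1 * swap z2 z3) (by
    rw [map_mul, sign_swap h01, sign_swap h23]; rfl)
  have τv : (π τ).1 z0 = z1 ∧ (π τ).1 z1 = z0 ∧ (π τ).1 z2 = z3 ∧ (π τ).1 z3 = z2 := by
    simp [hτ, swap_apply_of_ne_of_ne, h02, h02.symm, h03, h03.symm, h12, h12.symm, h13, h13.symm]
  have hflip : ∀ s t, Commute (LP z0 z1 s) (LP z2 z3 t) →
      Commute (LP z0 z1 (flip hS s)) (LP z2 z3 (flip hS t)) := by
    intro s t hc
    have := hmove τ z0 z1 z2 z3 s t h01 h23 hc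
    rwa [τv.1, τv.2.1, τv.2.2.1, τv.2.2.2, blk_symm hH R h01, blk_symm hH R h23] at this
  have hC' : Commute (LP z0 z1 (flip hS g)) (LP z2 z3 g) := by
    have := hflip _ _ hB
    rwa [flip_flip] at this
  have hD' := hflip _ _ hA
  have hb0 : ∀ s t, Commute (LP z0 z1 s) (LP z2 z3 t) := by
    have e : ∀ (f : SUn 2 F q →* Q) (y : Q), Commute (f g) y → Commute (f (flip hS g)) y →
        ∀ s, Commute (f s) y := by
      intro f y h1 h2 s
      have := hom_ext hH (f := f) (f' := (MulAut.conj y).toMonoidHom.comp f) (by simp [h1.symm.eq])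
        (by simp [h2.symm.eq]) s
      simp only [MonoidHom.comp_apply, MulEquiv.coe_toMonoidHom, MulAut.conj_apply] at this
      rw [eq_mul_inv_iff_mul_eq] at this
      exact this
    intro s t
    exact (e (LP z2 z3) _ (e (LP z0 z1) _ hA hC' s).symm (e (LP z0 z1) _ hB hD' s).symm t).symm
  obtain ⟨g', h | h⟩ := exists_alt_map (m := 2) ![z0, z1, z2, z3] ![i, j, k, l]
    (by intro a b; fin_cases a <;> fin_cases b <;>
          simp [h01, h01.symm, h02, h02.symm, h03, h03.symm, h12, h12.symm, h13, h13.symm, h23,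
            h23.symm])
    (by intro a b; fin_cases a <;> fin_cases b <;>
          simp [hij, hij.symm, hik, hik.symm, hil, hil.symm, hjk, hjk.symm, hjl, hjl.symm, hkl,
            hkl.symm])
  · obtain ⟨g'', rfl⟩ := hH.surj g'
    have := hmove g'' z0 z1 z2 z3 s t h01 h23 (hb0 s t)
    have e0 := h 0; have e1 := h 1; have e2 := h 2; have e3 := h 3
    simp at e0 e1 e2 e3
    rwa [e0, e1, e2, e3] at this
  · obtain ⟨g'', rfl⟩ := hH.surj g'
    have := hmove g'' z0 z1 z2 z3 (flip hS s) t h01 h23 (hb0 (flip hS s) t)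
    have e0 := h 0; have e1 := h 1; have e2 := h 2; have e3 := h 3
    simp [swap_apply_of_ne_of_ne] at e0 e1 e2 e3
    rw [e0, e1, e2, e3, blk_symm hH R hij, flip_flip] at this
    exact this

/-- The block on three coordinates, moved. -/
theorem triple {i j k : Fin N} (hij : i ≠ j) (hik : i ≠ k) (hjk : j ≠ k) :
    ∃ (h : H) (a b c : Fin 3), a ≠ b ∧ b ≠ c ∧ a ≠ c ∧
      (∀ s, blkHom π hn hS φ ψ i j s = ((MulAut.conj (φ h)).toMonoidHom.comp ψ) (e2' hS a b s)) ∧
      (∀ s, blkHom π hn hS φ ψ j k s = ((MulAut.conj (φ h)).toMonoidHom.comp ψ) (e2' hS b c s)) ∧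
      ∀ s, blkHom π hn hS φ ψ i k s = ((MulAut.conj (φ h)).toMonoidHom.comp ψ) (e2' hS a c s) := by
  have hz : ∀ {i j : Fin 4}, i ≠ j → z hn i ≠ z hn j := fun h => (z_injective hn).ne h
  have h01 : z hn 0 ≠ z hn 1 := hz (by decide)
  have h02 : z hn 0 ≠ z hn 2 := hz (by decide)
  have h12 : z hn 1 ≠ z hn 2 := hz (by decide)
  have mk : ∀ (h : H) (a b c : Fin 3), a ≠ b → b ≠ c → a ≠ c →
      (π h).1 (pt3 (show 3 ≤ N by omega) a) = i → (π h).1 (pt3 (show 3 ≤ N by omega) b) = j →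
      (π h).1 (pt3 (show 3 ≤ N by omega) c) = k →
      (∀ s, blkHom π hn hS φ ψ i j s = ((MulAut.conj (φ h)).toMonoidHom.comp ψ) (e2' hS a b s)) ∧
      (∀ s, blkHom π hn hS φ ψ j k s = ((MulAut.conj (φ h)).toMonoidHom.comp ψ) (e2' hS b c s)) ∧
      ∀ s, blkHom π hn hS φ ψ i k s = ((MulAut.conj (φ h)).toMonoidHom.comp ψ) (e2' hS a c s) := by
    intro h a b c hab hbc hac ea eb ec
    have e : ∀ {a b : Fin 3} (hab : a ≠ b) (s : SUn 2 F q),
        blkHom π hn hS φ ψ ((π h).1 (pt3 (show 3 ≤ N by omega) a)) ((π h).1 (pt3 (show 3 ≤ N by omega) b)) s =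
          ((MulAut.conj (φ h)).toMonoidHom.comp ψ) (e2' hS a b s) := fun hab s => by
      rw [← equi hH R h ((pt3 (show 3 ≤ N by omega)).injective.ne hab), block hH R hab, e2'_eq hS hab]
      rfl
    subst ea eb ec
    exact ⟨e hab, e hbc, e hac⟩
  obtain ⟨g, h | h⟩ := exists_alt_map (m := 1) ![z hn 0, z hn 1, z hn 2] ![i, j, k]
    (by intro a b; fin_cases a <;> fin_cases b <;>
          simp [h01, h01.symm, h02, h02.symm, h12, h12.symm])
    (by intro a b; fin_cases a <;> fin_cases b <;>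
          simp [hij, hij.symm, hik, hik.symm, hjk, hjk.symm])
  · obtain ⟨h', rfl⟩ := hH.surj g
    exact ⟨h', 0, 1, 2, by decide, by decide, by decide,
      mk h' 0 1 2 (by decide) (by decide) (by decide) (h 0) (h 1) (h 2)⟩
  · obtain ⟨h', rfl⟩ := hH.surj g
    exact ⟨h', 1, 0, 2, by decide, by decide, by decide,
      mk h' 1 0 2 (by decide) (by decide) (by decide) (h 0) (h 1) (h 2)⟩

end Facts

end Cfsg.Agent.SUSix
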