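import Cfsg.Agent.Phan.Unit
import Cfsg.Agent.SLShort.Model

/-!
# Permutation matrices and coordinate blocks in `SU(n, q)`
-/

set_option autoImplicit false

namespace Cfsg.Agent.SUSix

open Matrix Function Equiv Cfsg.Agent.Phan Cfsg.Agent.AltMult

universe u

variable {F : Type u} [Field F] [Fintype F] {σ : F →+* F} {q : ℕ} (hS : Fld σ q) {N m : ℕ}

/-- The matrix of an even permutation of the coordinates. -/
noncomputable def pm : alternatingGroup (Fin N) →* SUn N F q :=
  MonoidHom.codRestrict (ShortPres.permMat (F := F) (n := N)) (Cfsg.SU N F q) fun g u v => by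
    have h : ∀ w : Fin N → F, ((ShortPres.permMat g : SpecialLinearGroup (Fin N) F).1 *ᵥ w) =
        w ∘ (g.1⁻¹ : Perm (Fin N)) := fun w => funext (ShortPres.permMat_mulVec g w)
    show Cfsg.hermForm N F q ((ShortPres.permMat g : SpecialLinearGroup (Fin N) F).1 *ᵥ u)
      ((ShortPres.permMat g : SpecialLinearGroup (Fin N) F).1 *ᵥ v) = Cfsg.hermForm N F q u v
    rw [h, h]
    simp only [Cfsg.hermForm, Function.comp_apply]
    exact Equiv.sum_comp (g.1⁻¹ : Perm (Fin N)) fun i => u i * v i ^ q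

omit [Fintype F] in
theorem ap_pm (g : alternatingGroup (Fin N)) (x : Vec N F) (r : Fin N) :
    ap (pm g : SUn N F q) x r = x ((g.1⁻¹ : Perm (Fin N)) r) :=
  ShortPres.permMat_mulVec g x r

include hS

theorem emb_congr {c c' : Fin m → Fin N} (hc : Injective c) (h : c = c') (s : SUn m F q) :
    emb hS c hc s = emb hS c' (h ▸ hc) s := by subst h; rfl

theorem ext_ap {g h : SUn N F q} (H : ∀ x r, ap g x r = ap h x r) : g = h :=
  ext_ev fun l => funext fun r => H _ r

theorem pm_emb (g : alternatingGroup (Fin N)) (c : Fin m → Fin N) (hc : Injective c) (s : SUn m F q) :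
    pm g * emb hS c hc s * (pm g)⁻¹ = emb hS (g.1 ∘ c) (g.1.injective.comp hc) s := by
  rw [mul_inv_eq_iff_eq_mul]
  refine ext_ap hS fun x r => ?_
  rw [ap_mul, ap_mul, ap_pm]
  obtain ⟨r, rfl⟩ := g.1.surjective r
  rw [Perm.inv_def, Equiv.symm_apply_apply]
  by_cases hr : r ∈ Set.range c
  · obtain ⟨a, rfl⟩ := hr
    rw [emb_c, show g.1 (c a) = (g.1 ∘ c) a from rfl, emb_c]
    congr 1
    funext b
    simp [ap_pm]
  · rw [emb_ne hS c hc s x hr, emb_ne hS (g.1 ∘ c) (g.1.injective.comp hc) s _ fun ⟨a, e⟩ =>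
      hr ⟨a, g.1.injective e⟩, ap_pm]
    simp

theorem emb_pm (c : Fin m → Fin N) (hc : Injective c) (p : alternatingGroup (Fin m))
    (g : alternatingGroup (Fin N)) (h1 : ∀ a, g.1 (c a) = c (p.1 a))
    (h2 : ∀ l, l ∉ Set.range c → g.1 l = l) : emb hS c hc (pm p) = pm g := by
  refine ext_ap hS fun x r => ?_
  rw [ap_pm]
  by_cases hr : r ∈ Set.range c
  · obtain ⟨a, rfl⟩ := hr
    rw [emb_c, ap_pm]
    show x (c ((p.1⁻¹ : Perm (Fin m)) a)) = _
    congr 1
    apply g.1.injective
    rw [h1]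
    simp
  · rw [emb_ne hS c hc _ x hr]
    congr 1
    apply g.1.injective
    rw [h2 r hr]
    simp

/-- Exchanging the two coordinates of `SU(2, q)`. -/
noncomputable def flip : SUn 2 F q →* SUn 2 F q :=
  emb hS ![1, 0] (injective_pair hS (show (1 : Fin 2) ≠ 0 by decide))

/-- The block on the coordinates `i`, `j`. -/
noncomputable def e2 {i j : Fin N} (hij : i ≠ j) : SUn 2 F q →* SUn N F q :=
  emb hS ![i, j] (injective_pair hS hij)

open _root_.Classical in
/-- The block on two coordinates, defined for all pairs. -/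
noncomputable def e2' (i j : Fin N) : SUn 2 F q →* SUn N F q := if h : i ≠ j then e2 hS h else 1

theorem e2'_eq {i j : Fin N} (hij : i ≠ j) : e2' hS i j = e2 hS hij := dif_pos hij

theorem e2_congr {i j i' j' : Fin N} (hij : i ≠ j) (hij' : i' ≠ j') (h1 : i = i') (h2 : j = j')
    (s : SUn 2 F q) : e2 hS hij s = e2 hS hij' s := by subst h1; subst h2; rfl

theorem e2_flip {i j : Fin N} (hij : i ≠ j) (s : SUn 2 F q) :
    e2 hS hij (flip hS s) = e2 hS hij.symm s := by
  rw [e2, flip, emb_comp]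
  exact emb_congr hS _ (funext fun a => by fin_cases a <;> rfl) s

theorem emb_e2 (c : Fin m → Fin N) (hc : Injective c) {a b : Fin m} (hab : a ≠ b) (s : SUn 2 F q) :
    emb hS c hc (e2 hS hab s) = e2 hS (hc.ne hab) s := by
  rw [e2, e2, emb_comp]
  exact emb_congr hS _ (funext fun a => by fin_cases a <;> rfl) s

theorem flip_flip (s : SUn 2 F q) : flip hS (flip hS s) = s := by
  refine ext_ap hS fun x r => ?_
  simp only [flip, emb_comp]
  rw [emb_congr hS _ (show (![1, 0] : Fin 2 → Fin 2) ∘ ![1, 0] = id from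
    funext fun a => by fin_cases a <;> rfl)]
  exact emb_c hS id injective_id s x r

theorem pm_e2 (g : alternatingGroup (Fin N)) {i j : Fin N} (hij : i ≠ j) (s : SUn 2 F q) :
    pm g * e2 hS hij s * (pm g)⁻¹ = e2 hS (g.1.injective.ne hij) s := by
  rw [e2, pm_emb, e2]
  exact emb_congr hS _ (funext fun a => by fin_cases a <;> rfl) s

theorem e2_disjoint {i j k l : Fin N} (hij : i ≠ j) (hkl : k ≠ l) (hik : i ≠ k) (hil : i ≠ l)
    (hjk : j ≠ k) (hjl : j ≠ l) (s t : SUn 2 F q) : Commute (e2 hS hij s) (e2 hS hkl t) := by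
  refine commute_of_fixSet hS (p := fun x => x ≠ i ∧ x ≠ j) (p' := fun x => x ≠ k ∧ x ≠ l)
    (fun x => ?_) (fun x hx => emb_ev_ne hS _ _ s (notMem_range_pair.2 hx))
    (fun x hx => emb_ev_ne hS _ _ t (notMem_range_pair.2 hx))
  by_cases h : x = i ∨ x = j
  · right
    rcases h with rfl | rfl
    exacts [⟨hik, hil⟩, ⟨hjk, hjl⟩]
  · left
    push Not at h
    exact h

theorem e2_range {i j : Fin N} (hij : i ≠ j) :
    (e2 hS hij).range = fixSet fun l => l ≠ i ∧ l ≠ j := by
  rw [e2, range_emb]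
  exact le_antisymm (fixSet_anti fun l hl => notMem_range_pair.2 hl)
    (fixSet_anti fun l hl => notMem_range_pair.1 hl)

theorem blk_eq {i j : Fin N} (hij : (j : ℕ) = i + 1) (hne : i ≠ j) :
    (blk (i : ℕ) : Subgroup (SUn N F q)) = (e2 hS hne).range := by
  rw [e2_range]
  refine le_antisymm (fixSet_anti fun l hl => ?_) (fun g hg => mem_blk_of_pair hij hg)
  exact ⟨fun e => hl.1 (Fin.ext e), fun e => hl.2 (Fin.ext (by omega))⟩

theorem e2_injective {i j : Fin N} (hij : i ≠ j) : Injective (e2 hS hij) :=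
  emb_injective hS _ _

end Cfsg.Agent.SUSix
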