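import Cfsg.Agent.SUSix.Model
import Cfsg.Agent.Phan.Normal
import Cfsg.Agent.SLShort.OneGen

/-!
# `SU(2, q)` is generated by an element and its flip

In a hyperbolic basis whose two isotropic vectors are exchanged by the flip, `SU(2, q)` becomes `SL(2)` over the
fixed field and the flip becomes the flip of `SL(2)` composed with a diagonal automorphism.
-/

set_option autoImplicit false

namespace Cfsg.Agent.SUSix

open Matrix Function Cfsg.Agent.Phan Cfsg.Agent.SL2Pres Cfsg.Agent.ShortPres Cfsg.Agent.RootSub.Dickson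
open Cfsg.Agent.Classical.Herm (IsInvol fixField)
open scoped MatrixGroups

universe u

variable {F : Type u} [Field F] [Fintype F] {σ : F →+* F} {q : ℕ} (hS : Fld σ q)
include hS

theorem exists_eta : ∃ η : F, η * σ η = -1 ∧ η * η ≠ 1 := by
  classical
  by_contra h
  push Not at h
  have hc := Classical.card_norm_fibre (σ := σ) hS.invol (a := -1) (by rw [map_neg, map_one])
    (neg_ne_zero.2 one_ne_zero)
  rw [hS.card_fix, Nat.card_eq_fintype_card, Fintype.card_subtype] at hc
  have hsub : (Finset.univ.filter fun x : F => x * σ x = -1) ⊆ {1, -1} := fun x hx => by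
    simp only [Finset.mem_filter, Finset.mem_univ, true_and] at hx
    simpa using mul_self_eq_one_iff.1 (h x hx)
  have h1 := Finset.card_le_card hsub
  have h3 : ({1, -1} : Finset F).card ≤ 2 := Finset.card_le_two
  have := hS.one
  omega

theorem exists_kappa : ∃ k : F, k ≠ 0 ∧ σ k = -k ∧ (k = 1 ∨ (2 : F) ≠ 0) := by
  by_cases h2 : (2 : F) = 0
  · exact ⟨1, one_ne_zero, by rw [map_one]; linear_combination h2, Or.inl rfl⟩
  · obtain ⟨k, hk0, hk⟩ := Classical.Herm.exists_skew hS.invol
    exact ⟨k, hk0, hk, Or.inr h2⟩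

/-- A model of `SU(2, q)` in which the flip is visible. -/
theorem exists_flip_model : ∃ (k : (fixField σ)ˣ) (Ψ : SL(2, fixField σ) →* SUn 2 F q),
    Bijective Ψ ∧ (∀ M, flip hS (Ψ M) = Ψ (SLShort.scaleHom k⁻¹ (flip2 M))) ∧
    (k = 1 ∨ (((2 : F) ≠ 0) ∧ ¬ IsSquare (k : fixField σ))) := by
  classical
  have hσ := hS.invol
  obtain ⟨η, hη, hη1⟩ := exists_eta hS
  obtain ⟨k, hk0, hk, hk2⟩ := exists_kappa hS
  have hη0 : η ≠ 0 := fun e => by rw [e, zero_mul] at hη; exact one_ne_zero (neg_eq_zero.1 hη.symm)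
  let P : Matrix (Fin 2) (Fin 2) F := !![1, η / k; η, 1 / k]
  set b : F := (η + σ η) / k with hb
  have hP : (P.map σ)ᵀ * P = Classical.skewJ b := by
    ext i j
    fin_cases i <;> fin_cases j <;>
      simp [P, hb, Classical.skewJ, Matrix.mul_apply, Fin.sum_univ_two, hk] <;> field_simp <;>
      first
      | linear_combination (0 : F) * hη
      | linear_combination hη
      | linear_combination -hη
      | linear_combination (2 : F) * hη
      | linear_combination (-2 : F) * hη
  have hdetP : IsUnit P.det := by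
    refine isUnit_iff_ne_zero.2 ?_
    simp only [P, Matrix.det_fin_two_of]
    intro e
    field_simp at e
    exact hη1 (by linear_combination -e)
  have hPi : P * P⁻¹ = 1 := Matrix.mul_nonsing_inv P hdetP
  have hiP : P⁻¹ * P = 1 := Matrix.nonsing_inv_mul P hdetP
  let ι := (fixField σ).subtype
  have hι : ∀ x : fixField σ, σ (ι x) = ι x := fun x => x.2
  have hmem : ∀ M : SL(2, fixField σ),
      ∀ u v, Classical.hermB 2 σ ((P * (M.1.map ι) * P⁻¹) *ᵥ u) ((P * (M.1.map ι) * P⁻¹) *ᵥ v) =
        Classical.hermB 2 σ u v := by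
    intro M
    rw [Classical.preserves_iff_mul]
    have hMσ : (M.1.map ι).map σ = M.1.map ι := by ext i j; exact hι _
    have hMd : (M.1.map ι).det = 1 := by
      rw [← RingHom.mapMatrix_apply, ← RingHom.map_det, M.2, map_one]
    rw [Classical.map_mul_hom, Classical.map_mul_hom, hMσ, Matrix.transpose_mul, Matrix.transpose_mul]
    calc (P⁻¹.map σ)ᵀ * ((M.1.map ι)ᵀ * (P.map σ)ᵀ) * (P * M.1.map ι * P⁻¹)
        = (P⁻¹.map σ)ᵀ * ((M.1.map ι)ᵀ * ((P.map σ)ᵀ * P) * M.1.map ι) * P⁻¹ := by simp only [Matrix.mul_assoc]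
      _ = (P⁻¹.map σ)ᵀ * (P.map σ)ᵀ * (P * P⁻¹) := by
        rw [hP, Classical.transpose_skewJ_mul, hMd, one_smul, ← hP]
        simp only [Matrix.mul_assoc]
      _ = 1 := by
        rw [hPi, mul_one, ← Matrix.transpose_mul, ← Classical.map_mul_hom, hPi,
          Matrix.map_one σ (map_zero σ) (map_one σ), Matrix.transpose_one]
  let Ψ : SL(2, fixField σ) →* SUn 2 F q :=
    { toFun := fun M => ⟨⟨P * (M.1.map ι) * P⁻¹, by
          rw [Matrix.det_conj ((Matrix.isUnit_iff_isUnit_det P).2 hdetP), ← RingHom.mapMatrix_apply,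
            ← RingHom.map_det, M.2, map_one]⟩, (Classical.mem_SU_iff hS.pow _).2 (hmem M)⟩
      map_one' := Subtype.ext (Subtype.ext (by
        show P * ((1 : Matrix (Fin 2) (Fin 2) (fixField σ)).map ι) * P⁻¹ = 1
        rw [Matrix.map_one ι (map_zero ι) (map_one ι), mul_one, hPi]))
      map_mul' := fun M N => Subtype.ext (Subtype.ext (by
        show P * ((M.1 * N.1).map ι) * P⁻¹ = (P * M.1.map ι * P⁻¹) * (P * N.1.map ι * P⁻¹)
        rw [Matrix.map_mul]
        calc P * (M.1.map ι * N.1.map ι) * P⁻¹ = P * M.1.map ι * (P⁻¹ * P) * N.1.map ι * P⁻¹ := by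
              rw [hiP, mul_one]; simp only [Matrix.mul_assoc]
          _ = _ := by simp only [Matrix.mul_assoc])) }
  have hinj : Injective Ψ := fun M N h => by
    have h1 : P * M.1.map ι * P⁻¹ = P * N.1.map ι * P⁻¹ := congrArg mx h
    have h2 := congrArg (fun X => P⁻¹ * X * P) h1
    simp only [Matrix.mul_assoc, hiP, mul_one] at h2
    simp only [← Matrix.mul_assoc, hiP, one_mul] at h2
    exact Subtype.ext (Matrix.map_injective ι.injective h2)
  have hbij : Bijective Ψ := by
    obtain ⟨-, e, -⟩ := exists_su_two_model hS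
    exact hinj.bijective_of_nat_card_le (Nat.card_congr e.toEquiv).ge
  have hkk : σ (k * k) = k * k := by rw [map_mul, hk]; ring
  let K : (fixField σ)ˣ := Units.mk0 ⟨k * k, hkk⟩ fun e => mul_ne_zero hk0 hk0 (congrArg Subtype.val e)
  refine ⟨K, Ψ, hbij, fun M => ?_, ?_⟩
  · let W : Matrix (Fin 2) (Fin 2) F := !![0, 1; 1, 0]
    let A : Matrix (Fin 2) (Fin 2) F := !![0, 1 / k; k, 0]
    have hWP : W * P = P * A := by
      ext i j
      fin_cases i <;> fin_cases j <;> simp [W, A, P, Matrix.mul_apply, Fin.sum_univ_two] <;> field_simp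
    have hW2 : W * W = 1 := by
      ext i j
      fin_cases i <;> fin_cases j <;> simp [W, Matrix.mul_apply, Fin.sum_univ_two]
    have hPW : P⁻¹ * W = A * P⁻¹ := by
      calc P⁻¹ * W = P⁻¹ * (W * (P * P⁻¹)) := by rw [hPi, mul_one]
        _ = P⁻¹ * ((W * P) * P⁻¹) := by simp only [Matrix.mul_assoc]
        _ = P⁻¹ * P * (A * P⁻¹) := by rw [hWP]; simp only [Matrix.mul_assoc]
        _ = _ := by rw [hiP, one_mul]
    have hflip : ∀ s : SUn 2 F q, mx (flip hS s) = W * mx s * W := by
      intro s
      refine Matrix.ext_of_mulVec_single fun l => funext fun r => ?_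
      have key : ∀ a : Fin 2, ap (flip hS s) (Pi.single l 1) ((![1, 0] : Fin 2 → Fin 2) a) =
          ap s ((Pi.single l (1 : F) : Fin 2 → F) ∘ ![1, 0]) a :=
        fun a => emb_c hS (![1, 0] : Fin 2 → Fin 2) _ s _ a
      have k0 := key 0
      have k1 := key 1
      fin_cases r
      · refine k1.trans ?_
        fin_cases l <;> simp [ap, mx, W, Matrix.mulVec, Matrix.vecMul, dotProduct, Fin.sum_univ_two, Matrix.mul_apply]
      · refine k0.trans ?_
        fin_cases l <;> simp [ap, mx, W, Matrix.mulVec, Matrix.vecMul, dotProduct, Fin.sum_univ_two, Matrix.mul_apply]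
    have hA : A * M.1.map ι * A = (SLShort.scaleHom K⁻¹ (flip2 M)).1.map ι := by
      ext i j
      fin_cases i <;> fin_cases j <;>
        simp [A, K, ι, SLShort.scaleHom_coe, flip2_coe, Matrix.mul_apply, Matrix.vecMul, dotProduct, Fin.sum_univ_two] <;> field_simp
    refine Subtype.ext (Subtype.ext ?_)
    show mx (flip hS (Ψ M)) = P * _ * P⁻¹
    rw [hflip, ← hA]
    show W * (P * M.1.map ι * P⁻¹) * W = _
    calc W * (P * M.1.map ι * P⁻¹) * W = (W * P) * M.1.map ι * (P⁻¹ * W) := by simp only [Matrix.mul_assoc]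
      _ = _ := by rw [hWP, hPW]; simp only [Matrix.mul_assoc]
  · rcases hk2 with rfl | h2
    · exact Or.inl (Units.ext (Subtype.ext (mul_one 1)))
    · refine Or.inr ⟨h2, fun ⟨s, hs⟩ => ?_⟩
      have hs' : (k : F) * k = (s : F) * s := congrArg Subtype.val hs
      rcases mul_self_eq_mul_self_iff.1 hs' with e | e
      · have := s.2
        change σ (s : F) = s at this
        rw [← e, hk] at this
        exact h2 (mul_left_cancel₀ hk0 (by linear_combination -this))
      · have := s.2
        change σ (s : F) = s at this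
        rw [show (s : F) = -k by rw [e, neg_neg], map_neg, hk] at this
        exact h2 (mul_left_cancel₀ hk0 (by linear_combination this))

set_option maxHeartbeats 1600000 in
/-- One element and its flip generate. -/
theorem exists_one_gen : ∃ g : SUn 2 F q, Subgroup.closure ({g, flip hS g} : Set (SUn 2 F q)) = ⊤ := by
  classical
  letI : Fintype (fixField σ) := Fintype.ofFinite _
  obtain ⟨k, Ψ, hbij, hflip, hk⟩ := exists_flip_model hS
  suffices ∃ g : SL(2, fixField σ),
      Subgroup.closure ({g, SLShort.scaleHom k⁻¹ (flip2 g)} : Set SL(2, fixField σ)) = ⊤ by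
    obtain ⟨g, hg⟩ := this
    refine ⟨Ψ g, ?_⟩
    rw [hflip, ← Set.image_pair, ← MonoidHom.map_closure, hg, Subgroup.map_top_of_surjective _ hbij.2]
  rcases hk with rfl | ⟨h2, hns⟩
  · obtain ⟨g, hg⟩ := SLShort.exists_one_gen (fixField σ)
    refine ⟨g, ?_⟩
    have e : SLShort.scaleHom (1⁻¹ : (fixField σ)ˣ) (flip2 g) = flip2 g := by
      ext i j
      fin_cases i <;> fin_cases j <;> simp [SLShort.scaleHom_coe]
    rwa [e]
  · obtain ⟨ν, hν⟩ := exists_gen_unit (fixField σ)
    have h2' : (2 : fixField σ) ≠ 0 := fun e => h2 (congrArg Subtype.val e)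
    have hνns : ¬ IsSquare (ν : fixField σ) := by
      rintro ⟨s, hs⟩
      refine hns ?_
      obtain ⟨i, hi⟩ := exists_pow_eq hν k.ne_zero
      exact ⟨s ^ i, by rw [hi, hs, mul_pow]⟩
    have hchar : ringChar (fixField σ) ≠ 2 := fun e => h2' (by
      have := ringChar.Nat.cast_ringChar (R := fixField σ)
      rw [e] at this
      exact_mod_cast this)
    obtain ⟨r, hr⟩ : IsSquare ((ν : fixField σ) * (k⁻¹ : (fixField σ)ˣ)) := by
      have hk' : ¬ IsSquare ((k⁻¹ : (fixField σ)ˣ) : fixField σ) := by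
        rw [Units.val_inv_eq_inv_val, isSquare_inv]; exact hns
      exact (quadraticChar_one_iff_isSquare (mul_ne_zero ν.ne_zero (Units.ne_zero _))).1 (by
        rw [map_mul, quadraticChar_neg_one_iff_not_isSquare.2 hνns,
          quadraticChar_neg_one_iff_not_isSquare.2 hk']
        norm_num)
    refine ⟨uM r, ?_⟩
    have hr0 : r ≠ 0 := fun e => mul_ne_zero ν.ne_zero (Units.ne_zero _) (by rw [hr, e, zero_mul])
    set s : (fixField σ)ˣ := Units.mk0 ((k : fixField σ) * r) (mul_ne_zero k.ne_zero hr0) with hs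
    have hsub : Subfield.closure ({(ν : fixField σ)} : Set (fixField σ)) = ⊤ := by
      rw [eq_top_iff]
      intro x _
      rcases eq_or_ne x 0 with rfl | hx
      · exact zero_mem _
      obtain ⟨i, rfl⟩ := exists_pow_eq hν hx
      exact pow_mem (Subfield.subset_closure (Set.mem_singleton ((ν : (fixField σ)ˣ) : fixField σ))) i
    have hlam := Classical.TwoTrans.top_of_not_exceptional h2' (lam := (ν : fixField σ))
      ν.ne_zero hsub (fun ⟨h9, hν2⟩ => by
        have h4 : ν ^ 4 = 1 := Units.ext (by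
          rw [Units.val_pow_eq_pow_val, Units.val_one, show (ν : fixField σ) ^ 4 = ((ν : fixField σ) ^ 2) ^ 2 by ring,
            hν2]; ring)
        have := Nat.le_of_dvd (by norm_num) (orderOf_dvd_of_pow_eq_one h4)
        omega)
    have hνv : (k : fixField σ) * r * r = ν := by
      rw [mul_assoc, ← hr, mul_left_comm, Units.mul_inv, mul_one]
    rw [eq_top_iff]
    intro x _
    have hx : SLShort.scaleHom s x ∈ (Subgroup.closure ({uM r, SLShort.scaleHom k⁻¹ (flip2 (uM r))} :
        Set SL(2, fixField σ))).map (SLShort.scaleHom s) := by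
      rw [MonoidHom.map_closure, Set.image_pair]
      have e1 : SLShort.scaleHom s (uM r) = upR (ν : fixField σ) := by
        apply Subtype.ext
        ext i j
        fin_cases i <;> fin_cases j <;> simp [SLShort.scaleHom_coe, uM_coe, coe_upR, hs, ← hνv] <;> ring
      have e2 : SLShort.scaleHom s (SLShort.scaleHom k⁻¹ (flip2 (uM r))) = lowR 1 := by
        apply Subtype.ext
        ext i j
        fin_cases i <;> fin_cases j <;>
          simp [SLShort.scaleHom_coe, flip2_coe, uM_coe, coe_lowR, hs, hr0] <;> field_simp <;>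
            exact div_self fun e => hr0 (Subtype.ext e)
      rw [e1, e2, Set.pair_comm, hlam]
      exact Subgroup.mem_top _
    obtain ⟨y, hy, e⟩ := hx
    exact SLShort.scaleHom_injective s e ▸ hy

end Cfsg.Agent.SUSix
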