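import Cfsg.Agent.SUSix.Model
import Cfsg.Agent.Phan.Lift

/-!
# Two generators of `SU(2, 3)`
-/

set_option autoImplicit false

namespace Cfsg.Agent.SUSix

open Matrix Function Cfsg.Agent.Phan

universe u

variable {F : Type u} [Field F] [Fintype F] {σ : F →+* F} {q : ℕ} (hS : Fld σ q)

theorem nn_zero_one : nn σ (0 : F) + nn σ (1 : F) = 1 := by simp [nn]

include hS

/-- The quarter turn of `SU(2, q)`. -/
def w2 : SUn 2 F q := mk2 hS 0 1 nn_zero_one

/-- An element of `SU(2, q)` is determined by its first column. -/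
theorem eq_of_col {x y : SUn 2 F q} (h0 : mx x 0 0 = mx y 0 0) (h1 : mx x 1 0 = mx y 1 0) : x = y := by
  obtain ⟨hx, ex⟩ := su_two_form hS x
  obtain ⟨hy, ey⟩ := su_two_form hS y
  rw [ex, ey]
  exact Subtype.ext (Subtype.ext (by simp only [mk2, h0, h1]))

omit hS in
theorem mx_mul_two (x y : SUn 2 F q) (i : Fin 2) :
    mx (x * y) i 0 = mx x i 0 * mx y 0 0 + mx x i 1 * mx y 1 0 := by
  show (mx x * mx y) i 0 = _
  simp [Matrix.mul_apply, Fin.sum_univ_two]

omit hS in
theorem mx_one : mx (1 : SUn 2 F q) = 1 := rfl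

variable (hq : q = 3)
include hq

theorem three_eq_zero : (3 : F) = 0 := by
  have hcard : Nat.card F = 9 := by
    rw [Classical.Herm.card_eq_fix_sq hS.invol, hS.card_fix, hq]; rfl
  have h9 : ((9 : ℕ) : F) = 0 := by
    rw [← hcard, Nat.card_eq_fintype_card]
    exact Nat.cast_card_eq_zero F
  have h : (3 : F) * 3 = 0 := by rw [← h9]; norm_num
  exact (mul_eq_zero.1 h).elim id id

/-- Two non-trivial norms of sum one are both minus one. -/
theorem nn_pair {a b : F} (h : nn σ a + nn σ b = 1) (ha : a ≠ 0) (hb : b ≠ 0) :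
    nn σ a = -1 ∧ nn σ b = -1 := by
  have key : ∀ x : F, x ≠ 0 → nn σ x = 1 ∨ nn σ x = -1 := by
    intro x hx
    have h3 := hS.fix_nn x
    rw [hS.pow, hq] at h3
    have h1 : nn σ x * ((nn σ x - 1) * (nn σ x + 1)) = 0 := by linear_combination h3
    rcases mul_eq_zero.1 h1 with e | e
    · exact absurd e (nn_ne_zero hx)
    rcases mul_eq_zero.1 e with e | e
    · exact Or.inl (sub_eq_zero.1 e)
    · exact Or.inr (by linear_combination e)
  rcases key a ha with e | e <;> rcases key b hb with e' | e'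
  · exact absurd (show (1 : F) = 0 by linear_combination h - e - e') one_ne_zero
  · exact absurd (show (1 : F) = 0 by linear_combination -h + e + e') one_ne_zero
  · exact absurd (show (1 : F) = 0 by linear_combination -h + e + e') one_ne_zero
  · exact ⟨e, e'⟩

variable {a : F} (ha : nn σ a = -1)
include ha

theorem nn_half : nn σ a + nn σ a = 1 := by
  linear_combination 2 * ha - three_eq_zero hS hq

omit hq in
theorem nn_root : nn σ (σ a * σ a) + nn σ (0 : F) = 1 := by
  unfold nn at *
  simp only [map_mul, map_zero, hS.sigma_sigma, mul_zero, add_zero]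
  linear_combination (a * σ a - 1) * ha

omit ha in
/-- The element of order three or six. -/
def s2 (ha : nn σ a = -1) : SUn 2 F q := mk2 hS a a (nn_half hS hq ha)

omit hq ha in
/-- The diagonal element by which the turn is moved. -/
def dz (ha : nn σ a = -1) : SUn 2 F q := mk2 hS (σ a * σ a) 0 (nn_root hS ha)

omit ha in
theorem sigma_cube (x : F) : σ x = x * x * x := by rw [hS.pow, hq]; ring

theorem root_sq : (σ a * σ a) * (σ a * σ a) = -1 := by
  have h2 : σ (σ a) = a := hS.sigma_sigma a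
  rw [sigma_cube hS hq (σ a)] at h2
  unfold nn at ha
  linear_combination σ a * h2 + ha

theorem root_a : (σ a * σ a) * a = -σ a ∧ a * a = -(σ a * σ a) := by
  have h2 := root_sq hS hq ha
  unfold nn at ha
  exact ⟨by linear_combination σ a * ha,
    by linear_combination a * a * h2 - (a * σ a - 1) * (σ a * σ a) * ha⟩

/-- Moving the turn by the third generator. -/
theorem s2_turn : s2 hS hq ha * w2 hS = dz hS ha * s2 hS hq ha := by
  refine eq_of_col hS ?_ ?_
  · simp [mx_mul_two, s2, w2, dz, mx_mk2]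
    linear_combination -(root_a hS hq ha).1
  · simp [mx_mul_two, s2, w2, dz, mx_mk2, hS.sigma_sigma]
    linear_combination sigma_cube hS hq a

theorem s2_inv_col : mx (s2 hS hq ha)⁻¹ 0 0 = σ a ∧ mx (s2 hS hq ha)⁻¹ 1 0 = -a := by
  have h := nn_half hS hq ha
  have hh : nn σ (σ a) + nn σ (-a) = 1 := by
    unfold nn at *
    simp only [hS.sigma_sigma, map_neg]
    linear_combination h
  have e : (s2 hS hq ha)⁻¹ = mk2 hS (σ a) (-a) hh := by
    refine inv_eq_of_mul_eq_one_right (eq_of_col hS ?_ ?_) <;>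
      simp [mx_mul_two, mx_one, s2, mx_mk2] <;>
      first | (unfold nn at h; linear_combination h) | ring
  rw [e]
  exact ⟨rfl, rfl⟩

/-- The turn and the third generator generate `SU(2, 3)`. -/
theorem closure_two : Subgroup.closure ({w2 hS, s2 hS hq ha} : Set (SUn 2 F q)) = ⊤ := by
  set H := Subgroup.closure ({w2 hS, s2 hS hq ha} : Set (SUn 2 F q))
  set z := σ a * σ a with hz
  have hw : w2 hS ∈ H := Subgroup.subset_closure (by simp)
  have hs : s2 hS hq ha ∈ H := Subgroup.subset_closure (by simp)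
  have hm : dz hS ha ∈ H := by
    rw [show dz hS ha = s2 hS hq ha * w2 hS * (s2 hS hq ha)⁻¹ by
      rw [s2_turn hS hq ha, mul_inv_cancel_right]]
    exact mul_mem (mul_mem hs hw) (inv_mem hs)
  have hz2 : z * z = -1 := root_sq hS hq ha
  have hdg : ∀ g : SUn 2 F q, mx g 1 0 = 0 → g ∈ H := by
    intro g hg
    obtain ⟨hx, -⟩ := su_two_form hS g
    set x := mx g 0 0 with hxdef
    have hx1 : x * σ x = 1 := by simpa [nn, hg] using hx
    rw [sigma_cube hS hq x] at hx1
    have h4 : (x - 1) * (x + 1) * ((x - z) * (x + z)) = 0 := by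
      linear_combination hx1 - (x * x - 1) * hz2
    rcases mul_eq_zero.1 h4 with h4 | h4 <;> rcases mul_eq_zero.1 h4 with h4 | h4
    · rw [show g = 1 from eq_of_col hS (by simp [mx_one, ← hxdef, sub_eq_zero.1 h4]) (by simp [mx_one, hg])]
      exact one_mem _
    · rw [show g = dz hS ha * dz hS ha from eq_of_col hS
        (by simp [mx_mul_two, dz, mx_mk2, ← hxdef, ← hz]; linear_combination h4 - hz2)
        (by simp [mx_mul_two, dz, mx_mk2, hg])]
      exact mul_mem hm hm
    · rw [show g = dz hS ha from eq_of_col hS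
        (by simp [dz, mx_mk2, ← hxdef, ← hz, sub_eq_zero.1 h4]) (by simp [dz, mx_mk2, hg])]
      exact hm
    · rw [show g = dz hS ha * dz hS ha * dz hS ha from eq_of_col hS
        (by simp [mx_mul_two, dz, mx_mk2, ← hxdef, ← hz]; linear_combination h4 - z * hz2)
        (by simp [mx_mul_two, dz, mx_mk2, hg])]
      exact mul_mem (mul_mem hm hm) hm
  rw [eq_top_iff]
  intro g _
  by_cases hB : mx g 1 0 = 0
  · exact hdg g hB
  obtain ⟨hAB, -⟩ := su_two_form hS g
  by_cases hA : mx g 0 0 = 0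
  · rw [show g = w2 hS * mk2 hS (mx g 1 0) 0 (by simpa [hA, nn_zero] using hAB) from
      eq_of_col hS (by simp [mx_mul_two, w2, mx_mk2, hA]) (by simp [mx_mul_two, w2, mx_mk2])]
    exact mul_mem hw (hdg _ (by simp [mx_mk2]))
  obtain ⟨nA, nB⟩ := nn_pair hS hq hAB hA hB
  set A := mx g 0 0 with hAdef
  set B := mx g 1 0 with hBdef
  have hsa : nn σ (σ a) = -1 := by
    unfold nn at *; rw [hS.sigma_sigma, mul_comm]; exact ha
  have ne0 : ∀ {u : F}, nn σ u = -1 → u ≠ 0 := fun hu e => by simp [e, nn] at hu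
  have hAa : ∀ {u v : F}, nn σ u = -1 → nn σ v = -1 → nn σ (u / v) + nn σ (0 : F) = 1 := by
    intro u v hu hv
    rw [nn_zero, add_zero, show nn σ (u / v) = nn σ u / nn σ v by simp [nn, mul_div_mul_comm], hu, hv,
      div_self (neg_ne_zero.2 one_ne_zero)]
  have hquot : ∀ {u v : F}, nn σ u = -1 → nn σ v = -1 → σ (u / v) = v / u := by
    intro u v hu hv
    have h : (u / v) * σ (u / v) = 1 := by simpa [nn] using hAa hu hv
    rw [eq_inv_of_mul_eq_one_right h, inv_div]
  obtain ⟨c0, c1⟩ := s2_inv_col hS hq ha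
  obtain ⟨-, haa⟩ := root_a hS hq ha
  have hu4 : (A * B - 1) * (A * B + 1) * ((A * B - z) * (A * B + z)) = 0 := by
    have h1 : (A * B) * σ (A * B) = 1 := by
      unfold nn at nA nB
      rw [map_mul]
      linear_combination B * σ B * nA - nB
    rw [sigma_cube hS hq (A * B)] at h1
    linear_combination h1 - ((A * B) * (A * B) - 1) * hz2
  have hA0 := ne0 nA
  have hB0 := ne0 nB
  have ha0 := ne0 ha
  have hsa0 := ne0 hsa
  have hn : a * σ a = -1 := ha
  rcases mul_eq_zero.1 hu4 with h | h <;> rcases mul_eq_zero.1 h with h | h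
  · rw [show g = mk2 hS (A / σ a) 0 (hAa nA hsa) * (s2 hS hq ha)⁻¹ from eq_of_col hS
      (by simp [mx_mul_two, mx_mk2, c0, c1, ← hAdef, div_mul_cancel₀ _ hsa0])
      (by simp [mx_mul_two, mx_mk2, c0, c1, ← hBdef, hquot nA hsa]; field_simp; linear_combination h + hn)]
    exact mul_mem (hdg _ (by simp [mx_mk2])) (inv_mem hs)
  · rw [show g = w2 hS * (mk2 hS (B / σ a) 0 (hAa nB hsa) * (s2 hS hq ha)⁻¹) from eq_of_col hS
      (by simp [mx_mul_two, w2, mx_mk2, c0, c1, ← hAdef, hquot nB hsa]; field_simp; linear_combination h - hn)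
      (by simp [mx_mul_two, w2, mx_mk2, c0, c1, ← hBdef, div_mul_cancel₀ _ hsa0])]
    exact mul_mem hw (mul_mem (hdg _ (by simp [mx_mk2])) (inv_mem hs))
  · rw [show g = w2 hS * (mk2 hS (B / a) 0 (hAa nB ha) * s2 hS hq ha) from eq_of_col hS
      (by simp [mx_mul_two, w2, s2, mx_mk2, ← hAdef, hquot nB ha]; field_simp; linear_combination h + haa)
      (by simp [mx_mul_two, w2, s2, mx_mk2, ← hBdef, div_mul_cancel₀ _ ha0])]
    exact mul_mem hw (mul_mem (hdg _ (by simp [mx_mk2])) hs)
  · rw [show g = mk2 hS (A / a) 0 (hAa nA ha) * s2 hS hq ha from eq_of_col hS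
      (by simp [mx_mul_two, s2, mx_mk2, ← hAdef, div_mul_cancel₀ _ ha0])
      (by simp [mx_mul_two, s2, mx_mk2, ← hBdef, hquot nA ha]; field_simp; linear_combination h - haa)]
    exact mul_mem (hdg _ (by simp [mx_mk2])) hs

end Cfsg.Agent.SUSix
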